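import Cfsg.Agent.Lib.Leech.Config2

/-! The orbits of `McL` on the 47104 cosets in `Co₂`. -/

namespace Cfsg.Lib.Leech

open Finset MulAction Golay Spor

set_option maxRecDepth 100000

/-- another pair of generators of the stabiliser of `V`, `U`. -/
def gMcL' : List ℕ := [0xa0206020201fdfe01fe0201fdfe02020201fe02020202060000000000000000002fefcfefeff0100ff00feff0100fefefeff00fefefeff0500000000000000000100ff00fd00fefefcff0101030300fd0100ff01010100ff00000000000000000100ff01010102ff00fefcfcff0301010100ff0100fd00ff00000000000000000100fefd0100feff00ff0100ff030100fd010300fd0100ff00000000000000000100ff0100fd02ff00ff010102ff010100fcff00fd0100ff000000000000000000fcff010100ff0300ff0100ff02fd0100fcff01010100ff00000000000000000100ff00fd00ff030102fd00feff01010100ff00fd0100ff0000000000000000feff00fefeff0100ff00feff01010302feff01030302ff0100000000000000000100ff0100fcff02fcff0100feff01010101030100fd00ff0000000000000000feff0102feff0101030102ff0100fefeff030102fefeff01000000000000000000fcfefd0100feff0103010102ff01010100ff0100fd00ff0000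000000000000feff010303030100ff00ff03010102fefeff00fefefeff0100000000000000000100fefd0101030300ff0100feff00fd0100ff010100fcff0000000000000000ff0300feff030100ff0102ff0100ff0302ff00fefefeff01000000000000000002ff04fefeff0100ff00feff0100fefefeff00fefefefefd000000000000000000fcff00fd0102ff00ff0100feff0101010102fd010100ff0000000000000000feff00ff02ff0100ff00feff0100feff030300feff03030100000000000000000100ff0100fcfeff01030100ff0301010100fefd0100fcff00000000000000000100ff010100feff00fefd0102fefd01010103010100fcff00000000000000000100ff01010102fefd030100fefefd00fd00ff01010100ff00000000000000000100ff010100feff010300fcfeff00fd00fd0301010100ff00000000000000000100ff010100ff0300ff00fd02ff0100fd00fefd010100ff0000000000000000ff0300fefeff01010300ff030100fefefeff00ff02ff03010000000000000000050103010100feff00ff0100feff01010100ff0101010103,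
  0x804000000000404000404000000000000000404040000080000000000000000003fdfffffffffdfdfffdfdfffffffffffffffdfdfe00000400000000000000000001fffffffffdfe0001fe00000000000403fe02020000000000000000000000020001fdfe02000001fffffdfdfe0201fe01fffffffe01fe000000000000000000020004000001fdfffe0200000003fffffffdfe020000000000000000000000fffe0000000001fe0002020004000003fffffe01fe000000000000000000000000020400040001fdfffdfe000000000000000201fe000000000000000000000001fffe020202000001fffffe01fdfdfdfe0200000001fdfe000000000000000001fffdfe01fdfffffe000001fe020201fe0200000001fdfe000000000000000000020000000402020001fe03fffffffffffffdfdfe00000000000000000000000001fffffffffdfe0402020000040000000001fdfe0000000000000000000000fffe0000000001fe0001fe0000000000000001fe020404000000000000000000fffe0003fffffe020001fe000000040000000201fe00000000000000000000000001fffffffffe01fffe01fffffffffffffffe01fe040400000000000000000001fffdfe01fe00000200000201fe01fe01fdfffffffe01fe0000000000000000fffe00000000020203fdfe000003fffffffffe02020000000000000000000000020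001fdfe01fffffdfffffe020201fe01fe00000001fdfe0000000000000000fffe040003fffe02000201fffffffffffffffdfe02000000000000000000000001fffe020201fffffdfffffdfe01fe0201fdfffffffe01fe000000000000000002000201fdfe000002000001fdfdfe0201fe00000001fdfe0000000000000000fffe000000000201fffe020000000000040401fdfe00000000000000000000000001fffffffffe01fffdfe0004000004000001fe02000000000000000000000002000201fdfdfffffe0000020201fdfdfe01fffffffe01fe0000000000000000fffe00000003fdfdfffe02040000000000000202020000000000000000000000040200000000020200020200000000000000020202000004]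

theorem impl_gMcL' : ImplIn (sCo2 ⊓ stabilizer Co0 leechV) gMcL' :=
  (ImplIn.stab (by decide +kernel) rep_U le64_U (by decide +kernel)).inf_stab rep_V le64_V
    (by decide +kernel)

theorem le_of_orb {H : Subgroup Co0} {Ws : List ℕ} (hW : ImplIn H Ws) {S : Set leechLattice}
    {n : ℕ} (hS : S ⊆ MinV) (hinv : ∀ g ∈ H, ∀ v ∈ S, g • v ∈ S) {p d a x0 : ℕ}
    (h0 : ∃ v ∈ S, Rep x0 v) (h : orb Ws p d a x0 (fun L => Nat.ble n (lenL L)) = true) :
    n ≤ S.ncard ∧ (S.ncard = n → ∀ v ∈ S, ∀ w ∈ S, ∃ g ∈ H, g • v = w) := by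
  obtain ⟨v, hv, h0⟩ := h0
  obtain ⟨L, h1, h2⟩ := sub_of_orb hW h0 (by rw [hS hv]; norm_num) h
  rw [ble_iff] at h1
  have h3 : orbit H v ⊆ S := by rintro _ ⟨⟨g, hg⟩, rfl⟩; exact hinv g hg v hv
  refine ⟨h1.trans ((h2.mono h3).le_ncard (finite_MinV.subset hS)), fun hc x hx y hy => ?_⟩
  obtain ⟨e, -⟩ := h2.enum h3 (finite_MinV.subset hS) (hc ▸ h1)
  exact exists_smul_of_mem_orbit (e ▸ hx) (e ▸ hy)

theorem start_UV {x : ℕ} {d : ℤ} (h : minB x = true) (h8 : 8 = 4 * (dU x : ℤ) - 64)
    (hd : d = 224 - dV x) : ∃ v ∈ SD (XD leechU 8) leechV d, Rep x v := by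
  obtain ⟨v, hv, e⟩ := exists_min_of h
  exact ⟨v, ⟨⟨hv, h8 ▸ e.dot_U⟩, hd ▸ e.dot_V hv⟩, e⟩

theorem orbU275 : 275 ≤ (SD (XD leechU 8) leechV (-24)).ncard ∧
    ((SD (XD leechU 8) leechV (-24)).ncard = 275 → ∀ v ∈ SD (XD leechU 8) leechV (-24),
      ∀ w ∈ SD (XD leechU 8) leechV (-24), ∃ g ∈ sCo2 ⊓ stabilizer Co0 leechV, g • v = w) :=
  le_of_orb impl_gMcL' (SD_sub XD_sub) (SD_inv XD_inv) (p := 4899) (d := 4) (a := 6)
    (x0 := 0x090909090909090909090909090909090909090909090509) (start_UV (by decide +kernel) (by decide +kernel) (by decide +kernel)) (by decide +kernel)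

theorem orbU7128 : 7128 ≤ (SD (XD leechU 8) leechV (-16)).ncard ∧
    ((SD (XD leechU 8) leechV (-16)).ncard = 7128 → ∀ v ∈ SD (XD leechU 8) leechV (-16),
      ∀ w ∈ SD (XD leechU 8) leechV (-16), ∃ g ∈ sCo2 ⊓ stabilizer Co0 leechV, g • v = w) :=
  le_of_orb impl_gMcL' (SD_sub XD_sub) (SD_inv XD_inv) (p := 2097287) (d := 13) (a := 113)
    (x0 := 0x08080808080808080808080a080a08080a08080a0a0a0a0a) (start_UV (by decide +kernel) (by decide +kernel) (by decide +kernel)) (by decide +kernel)

theorem orbU22275 : 22275 ≤ (SD (XD leechU 8) leechV (-8)).ncard ∧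
    ((SD (XD leechU 8) leechV (-8)).ncard = 22275 → ∀ v ∈ SD (XD leechU 8) leechV (-8),
      ∀ w ∈ SD (XD leechU 8) leechV (-8), ∃ g ∈ sCo2 ⊓ stabilizer Co0 leechV, g • v = w) :=
  le_of_orb impl_gMcL' (SD_sub XD_sub) (SD_inv XD_inv) (p := 16777221) (d := 16) (a := 350)
    (x0 := 0x08080808080808080808080a080a08080a08080a0a06060a) (start_UV (by decide +kernel) (by decide +kernel) (by decide +kernel)) (by decide +kernel)

theorem orbU15400 : 15400 ≤ (SD (XD leechU 8) leechV 0).ncard ∧
    ((SD (XD leechU 8) leechV 0).ncard = 15400 → ∀ v ∈ SD (XD leechU 8) leechV 0,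
      ∀ w ∈ SD (XD leechU 8) leechV 0, ∃ g ∈ sCo2 ⊓ stabilizer Co0 leechV, g • v = w) :=
  le_of_orb impl_gMcL' (SD_sub XD_sub) (SD_inv XD_inv) (p := 8388609) (d := 15) (a := 242)
    (x0 := 0x08080808080808080808080a080a08080a0808060606060a) (start_UV (by decide +kernel) (by decide +kernel) (by decide +kernel)) (by decide +kernel)

theorem orbU2025 : 2025 ≤ (SD (XD leechU 8) leechV 8).ncard ∧
    ((SD (XD leechU 8) leechV 8).ncard = 2025 → ∀ v ∈ SD (XD leechU 8) leechV 8,
      ∀ w ∈ SD (XD leechU 8) leechV 8, ∃ g ∈ sCo2 ⊓ stabilizer Co0 leechV, g • v = w) :=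
  le_of_orb impl_gMcL' (SD_sub XD_sub) (SD_inv XD_inv) (p := 170139) (d := 9) (a := 33)
    (x0 := 0x08080808080808080808080a08060808060808060606060a) (start_UV (by decide +kernel) (by decide +kernel) (by decide +kernel)) (by decide +kernel)

theorem ncard_eq_sum_SD {S : Set leechLattice} (hS : S.Finite) (u : leechLattice) (D : Finset ℤ)
    (h : ∀ v ∈ S, ip u v ∈ D) : S.ncard = ∑ d ∈ D, (SD S u d).ncard := by
  classical
  rw [Set.ncard_eq_toFinset_card _ hS, Finset.card_eq_sum_card_fiberwise (f := ip u) (t := D)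
    (fun y hy => h y (by simpa using hy))]
  refine Finset.sum_congr rfl fun d _ => ?_
  rw [← Set.ncard_coe_finset]
  refine congrArg _ (Set.ext fun y => ?_)
  simp [SD]

theorem ncard_XD_neg (u : leechLattice) (d : ℤ) : (XD u (-d)).ncard = (XD u d).ncard :=
  ncard_inv_smul negOne fun x => by
    rw [inv_eq_of_mul_eq_one_right negOne_mul_self, negOne_smul]
    show _ ∧ _ ↔ _ ∧ _
    rw [neg_mem_MinV, ip_neg_right, neg_eq_iff_eq_neg]

theorem ncard_XD_U8 : (XD leechU 8).ncard = 47104 := (ncard_XD_neg _ _).symm.trans census_U.2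

theorem VU_mem : leechV + leechU ∈ XD leechU 8 := ⟨show sqNorm _ = 32 by decide, by decide⟩

theorem ip_V_cases {y : leechLattice} (hy : y ∈ XD leechU 8) : y = leechV + leechU ∨
    ip leechV y ∈ ({-24, -16, -8, 0, 8} : Finset ℤ) := by
  have h1 : ip (leechV + leechU) y = ip leechV y + 8 := by rw [ip_add_left, hy.2]
  rcases ip_cases_min VU_mem.1 hy.1 with h | h | h
  · exact Or.inl h.symm
  · have := VU_mem.2
    rw [h, ip_neg_right, hy.2] at this; omega
  · right; simp only [mem_insert, mem_singleton]; omega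

theorem counts47104 : (SD (XD leechU 8) leechV (-24)).ncard = 275 ∧
    (SD (XD leechU 8) leechV (-16)).ncard = 7128 ∧ (SD (XD leechU 8) leechV (-8)).ncard = 22275 ∧
    (SD (XD leechU 8) leechV 0).ncard = 15400 ∧ (SD (XD leechU 8) leechV 8).ncard = 2025 := by
  have h := ncard_eq_sum_SD (finite_MinV.subset (XD_sub (u := leechU) (d := 8))) leechV
    {24, -24, -16, -8, 0, 8} fun v hv => by
      rcases ip_V_cases hv with rfl | h
      · decide
      · exact mem_insert_of_mem h
  have h1 : 0 < (SD (XD leechU 8) leechV 24).ncard :=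
    (Set.ncard_pos (finite_MinV.subset (SD_sub XD_sub))).2 ⟨_, VU_mem, by decide⟩
  rw [ncard_XD_U8, sum_insert (by decide), sum_insert (by decide), sum_insert (by decide),
    sum_insert (by decide), sum_insert (by decide), sum_singleton] at h
  have := orbU275.1
  have := orbU7128.1
  have := orbU22275.1
  have := orbU15400.1
  have := orbU2025.1
  omega

end Cfsg.Lib.Leech
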