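import Cfsg.Agent.Lib.Leech.Quad

/-! An automorphism of the Leech lattice with square `-1`; a totally singular subspace of `Λ/2Λ`
of dimension 12. -/

namespace Cfsg.Lib.Leech

open Finset MulAction
open scoped Pointwise

theorem projInv_mem : projInv ∈ M24 := Golay.dec_cG ▸ (Golay.inH_gM24 Golay.cG (by decide)).2

theorem exists_imag : ∃ i : Co0, i * i = negOne := by
  have hD : Cw (Golay.om (Golay.qrM 0)) := Golay.om_qrM_mem (by norm_num)
  refine ⟨sgn _ hD * prm ⟨projInv, projInv_mem⟩, co0_ext_e8 fun j => ?_⟩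
  have h1 : ∀ j, projInv (projInv j) = j := by decide
  have h2 : ∀ j, projInv j ∈ Golay.om (Golay.qrM 0) ↔ j ∉ Golay.om (Golay.qrM 0) := by
    simp only [Golay.Coding.mem_ofMask]; decide +kernel
  rw [mul_smul, negOne_smul, sgn_prm_smul_e8]
  by_cases h : j ∈ Golay.om (Golay.qrM 0)
  · rw [if_neg (by simpa [h2] using h), sgn_prm_smul_e8]
    simp only [h1, if_pos h]
  · rw [if_pos ((h2 j).2 h), co0_smul_neg, sgn_prm_smul_e8]
    simp only [h1, if_neg h]

theorem index_two_leech : (nsmulAddMonoidHom (α := leechLattice) 2).range.index = 2 ^ 24 := by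
  have := leech_finite
  have := leech_free
  rw [AddSubgroup.index_range_nsmul, leech_finrank]

/-- A totally singular subgroup of index `2^12`. -/
theorem exists_singular : ∃ A : AddSubgroup leechLattice, (∀ v, v + v ∈ A) ∧ A.index = 2 ^ 12 ∧
    ∀ v ∈ A, 32 ∣ sqNorm (v : GolayPt → ℤ) := by
  obtain ⟨i, hi⟩ := exists_imag
  have hii : ∀ v : leechLattice, i • i • v = -v := fun v => by rw [← mul_smul, hi, negOne_smul]
  let φ : leechLattice →+ leechLattice := AddMonoidHom.id _ + toHom i
  have hφ : ∀ v, φ v = v + i • v := fun v => rfl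
  have hn : ∀ v : leechLattice, sqNorm (φ v : GolayPt → ℤ) = 2 * sqNorm (v : GolayPt → ℤ) := by
    intro v
    have := dot_smul i v (i • v)
    rw [hii, NegMemClass.coe_neg, dotInt_neg_right, dotInt_comm] at this
    rw [hφ, AddSubgroup.coe_add, sqNorm_add, sqNorm_smul]; omega
  have hinj : Function.Injective φ := by
    rw [injective_iff_map_eq_zero]
    intro v hv
    have := hn v
    rw [hv, ZeroMemClass.coe_zero, sqNorm_zero] at this
    exact Subtype.ext (sqNorm_eq_zero (by omega))
  have h2 : ∀ v, φ (φ v) = 2 • (i • v) := fun v => by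
    rw [hφ, hφ, co0_smul_add, hii]; abel
  refine ⟨φ.range, fun v => ⟨v - i • v, by rw [hφ, co0_smul_sub, hii]; abel⟩, ?_, ?_⟩
  · have e : φ.range.map φ = (nsmulAddMonoidHom (α := leechLattice) 2).range := by
      ext x; constructor
      · rintro ⟨_, ⟨v, rfl⟩, rfl⟩; exact ⟨i • v, (h2 v).symm⟩
      · rintro ⟨v, rfl⟩
        exact ⟨_, ⟨i⁻¹ • v, rfl⟩, by rw [h2, smul_inv_smul]; rfl⟩
    have h3 := AddSubgroup.relIndex_map_map_of_injective φ.range ⊤ hinj
    have h4 := AddSubgroup.relIndex_mul_index (H := φ.range.map φ) (K := φ.range)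
      (AddSubgroup.map_le_range _ _)
    rw [← AddMonoidHom.range_eq_map, AddSubgroup.relIndex_top_right] at h3
    rw [h3, e, index_two_leech] at h4
    exact Nat.pow_left_injective (n := 2) (by norm_num) (by simp only [sq, h4]; norm_num)
  · rintro _ ⟨v, rfl⟩
    have := sixteen_dvd_sqNorm v.2
    rw [hn]; omega

end Cfsg.Lib.Leech
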