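import Cfsg.Agent.Lib.Leech.MonQ
import Cfsg.Agent.Lib.Golay.Oct

/-! The centralizer of a non-central involution in a group of Monster type. -/

namespace Cfsg.Lib.Leech

open Subgroup MulAction Spor Cfsg.Lib.Known2 Cfsg.Lib.Core Cfsg.Lib.Amalg

theorem mk_conj_congr {D : Type*} [Group D] {Q : Subgroup D} [Q.Normal] (h : D) {q r : Q}
    (e : (QuotientGroup.mk q : Q ⧸ center Q) = QuotientGroup.mk r) :
    (QuotientGroup.mk (MulAut.conjNormal h q) : Q ⧸ center Q) =
      QuotientGroup.mk (MulAut.conjNormal h r) := by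
  rw [QuotientGroup.eq] at e ⊢
  rw [← map_inv, ← map_mul]
  exact characteristic_iff_map_le.1 inferInstance (MulAut.conjNormal h) ⟨_, e, rfl⟩

theorem pCore_eq_bot_of_simple {T : Type*} [Group T] [Finite T] [IsSimpleGroup T]
    (h : 3 ∣ Nat.card T) : pCore 2 T = ⊥ := by
  refine (Normal.eq_bot_or_eq_top inferInstance).resolve_right fun e => ?_
  have := Fact.mk Nat.prime_two
  obtain ⟨n, hn⟩ := IsPGroup.iff_card.1 (pCore_eq_top_iff.1 e)
  rw [hn] at h
  exact absurd (Nat.prime_three.dvd_of_dvd_pow h) (by norm_num)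

namespace MT

variable {G : Type*} [Group G] {z : G} {R : Subgroup G} {π : centralizer ({z} : Set G) →* Co1}
  {Ov : leechLattice → G → Prop} (M : MT z R π Ov)
include M

theorem mem_inf_cent {v w x y} (h : Ov v x) (h' : Ov w y) (e : 16 ∣ ip v w) :
    x ∈ R ⊓ centralizer {y} :=
  ⟨M.mem h, mem_centralizer_singleton_iff.2 ((M.comm_iff h h').2 e)⟩

theorem conj_of_32 {v w x y} (h : Ov v x) (h' : Ov w y) (hv : sqNorm (v : GolayPt → ℤ) = 32)
    (hw : sqNorm (w : GolayPt → ℤ) = 32) : ∃ c ∈ centralizer ({z} : Set G), c * x * c⁻¹ = y := by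
  obtain ⟨k, rfl⟩ := trans32 hv hw
  obtain ⟨c, hc, e⟩ := M.exists_conj h h' (M.ne_of_short h (Or.inl hv)).1
    (M.ne_of_short h (Or.inl hv)).2
  exact ⟨c, hc.1, e⟩

variable {g : G} (hs : g * z * g⁻¹ ∈ R) (hne : g * z * g⁻¹ ≠ z)
include hs hne

theorem exists_two_inf' (hv : Ov (e8 none) (g * z * g⁻¹)) :
    ∃ x ∈ cj g R, ∃ v, Ov v x ∧ sqNorm (v : GolayPt → ℤ) = 32 := by
  have hc : Cw (Golay.om 0xa402f0) := Golay.om_mem_cw (by decide +kernel)
  have hO : Cw (Golay.om 0x82402f) := Golay.om_mem_cw (by decide +kernel)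
  obtain ⟨y, hy, a⟩ := mem_img.1 (M.img_B hs hne hv ▸ sgn_mem_Sgn _ hc)
  obtain ⟨x, hx⟩ := M.ex_x ⟨_, twoInd_mem hO⟩
  refine ⟨_, ?_, _, M.mul (M.mt_conj a hx) (M.inv hx), ?_⟩
  · have := mul_mem (mem_inf.1 hy).2 (M.conj_mem' (M.mem_inf_cent hx hv (by
      rw [ip, dot_e8]; simp only [twoInd]; split_ifs <;> norm_num)).2 (inv_mem (mem_inf.1 hy).2))
    simpa only [mul_assoc] using this
  · simp only [sqNorm, AddSubgroup.coe_add, Pi.add_apply, sgn_smul, AddSubgroup.coe_neg,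
      Pi.neg_apply, twoInd, Golay.Coding.mem_ofMask]
    decide +kernel

theorem exists_two_inf : ∃ x ∈ cj g R, ∃ v, Ov v x ∧ sqNorm (v : GolayPt → ℤ) = 32 := by
  obtain ⟨k, hk⟩ := M.exists_e8 hs hne
  obtain ⟨x, hx, v, hv, h⟩ := (M.twist k).exists_two_inf' hs hne hk
  exact ⟨x, hx, _, hv, by rw [sqNorm_smul, h]⟩

theorem baby_weak {t : G} (ht : Ov leechU t) (hc : ¬ IsConj z t) :
    ∃ a ∈ centralizer ({t} : Set G), a * z * a⁻¹ ∈ R ∧ a * z ≠ z * a := by
  obtain ⟨x, hx, v, hv, h⟩ := M.exists_two_inf hs hne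
  obtain ⟨c, hc1, e1⟩ := M.conj_of_32 hv ht h sqNorm_leechU
  have hx2 : orderOf x = 2 := orderOf_eq_two_of ((M.sq_iff hv).2 (by rw [h]))
    (M.ne_of_short hv (Or.inl h)).1
  obtain ⟨w, hw, h'⟩ := M.type_two hs hne (mem_cj.1 hx)
    (by rw [← hx2]; simpa using MulAut.conj g⁻¹ |>.orderOf_eq x)
    fun e => hc (e.trans (isConj_iff.2 ⟨c * g, by rw [← e1]; group⟩))
  obtain ⟨d, hd, e2⟩ := M.conj_of_32 hw ht h' sqNorm_leechU
  have e3 : c * g * d⁻¹ * z * (c * g * d⁻¹)⁻¹ = c * (g * z * g⁻¹) * c⁻¹ := by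
    rw [mul_assoc _ d⁻¹, mem_centralizer_singleton_iff.1 (inv_mem hd)]; group
  refine ⟨c * g * d⁻¹, mem_centralizer_singleton_iff.2 ?_, e3 ▸ M.conj_mem hc1 hs, fun e => hne ?_⟩
  · conv_lhs => rw [← e2]
    conv_rhs => rw [← e1]
    group
  · rw [e, mul_inv_cancel_right, eq_mul_inv_iff_mul_eq, ← mem_centralizer_singleton_iff.1 hc1] at e3
    exact (mul_left_cancel e3).symm

theorem baby [Finite G] {t : G} (ht : Ov leechU t) (hc : ¬ IsConj z t)
    [((zpowers t).subgroupOf (centralizer ({t} : Set G))).Normal] :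
    IsOfBabyMonsterType (centralizer ({t} : Set G) ⧸
      (zpowers t).subgroupOf (centralizer ({t} : Set G))) := by
  have E := M.es
  have htR := M.mem ht
  obtain ⟨t1, tz⟩ := M.ne_of_short ht (Or.inl sqNorm_leechU)
  have tt : t * t = 1 := (M.sq_iff ht).2 (by rw [sqNorm_leechU])
  have hY : ∀ {x}, x ∈ zpowers t ↔ x = 1 ∨ x = t := mem_zpowers_invol tt
  have hz : z ∈ centralizer ({t} : Set G) := mem_centralizer_singleton_iff.2 (E.cen t htR).symm
  have hzY : z ∉ zpowers t := fun e => (hY.1 e).elim E.ne tz.symm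
  have cz : ∀ h ∈ centralizer ({t} : Set G), h * z * h⁻¹ * z⁻¹ ∈ zpowers t → h * z = z * h := by
    intro h _ e
    rcases hY.1 e with e | e
    · exact mul_inv_eq_iff_eq_mul.1 (mul_inv_eq_one.1 e)
    · obtain ⟨a, -, e'⟩ := es_exists_conj E htR t1 tz
      refine absurd (isConj_iff.2 ⟨a⁻¹ * h, ?_⟩) hc
      rw [← mul_inv_eq_iff_eq_mul.1 e] at e'
      rw [mul_assoc a⁻¹, mul_inv_rev, ← mul_assoc, mul_assoc a⁻¹, ← e']; group
  have hQn := qQ_normal (Y := zpowers t) hz cz fun h hh x hx => M.conj_mem hh hx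
  have hcen : ∀ x ∈ R ⊓ centralizer {t}, (∀ y ∈ R ⊓ centralizer {t}, x * y = y * x) →
      x ∈ zpowers t ∨ x * z ∈ zpowers t := fun x hx h => by
    rcases E.double_perp htR hx.1 fun y hy e => h y ⟨hy, mem_centralizer_singleton_iff.2 e.symm⟩
      with (rfl | rfl) | rfl | rfl <;> simp [hY, mul_assoc, E.sq]
  have hna : ∃ x ∈ R ⊓ centralizer {t}, ∃ y ∈ R ⊓ centralizer {t}, x * y ≠ y * x := by
    obtain ⟨x, hx⟩ := M.ex_x ⟨_, twoInd_mem Golay.O0_mem.1⟩
    obtain ⟨y, hy⟩ := M.ex_x (v44 (some 1) (some 4) 1 1 (by norm_num))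
    exact ⟨x, M.mem_inf_cent hx ht (by decide +kernel), y, M.mem_inf_cent hy ht (by decide),
      fun e => absurd ((M.comm_iff hx hy).1 e) (by decide +kernel)⟩
  have hneg : negOne ∉ sCo2 := fun h => by
    rw [mem_stabilizer_iff, negOne_smul] at h; exact absurd h (by decide)
  have h1 : ∀ l ∈ centralizer {t} ⊓ centralizer {z}, ∃ k ∈ sCo2, Mt π l k := fun l hl => by
    obtain ⟨k, hk⟩ := exists_mt (π := π) hl.2
    obtain ⟨w, hw⟩ := (M.img_cent ht t1 tz).1 (mem_img.2 ⟨l, ⟨hl.2, hl.1⟩, hk⟩)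
    rcases pm_of_congr (by rw [sqNorm_leechU]; norm_num) hw with e | e
    · exact ⟨k, e, hk⟩
    · exact ⟨_, by rw [mem_stabilizer_iff, mul_smul, e, negOne_smul, neg_neg], hk.neg⟩
  obtain ⟨τ, hτ⟩ := exists_tau co2Equiv.toMonoidHom h1 fun h => absurd h hneg
  have hτs : Function.Surjective τ := fun a => by
    obtain ⟨k, rfl⟩ := co2Equiv.surjective a
    obtain ⟨c, hc, e⟩ := M.exists_conj ht (g := k) (by rwa [mem_stabilizer_iff.1 k.2]) t1 tz
    exact ⟨⟨c, mem_centralizer_singleton_iff.2 (mul_inv_eq_iff_eq_mul.1 e), hc.1⟩, hτ _ k hc⟩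
  have hτ' : ∀ l (k : sCo2), τ l = co2Equiv k → Mt π l k := fun l k e => by
    obtain ⟨k', h2, h3⟩ := h1 l l.2
    rwa [← co2Equiv.injective ((hτ l ⟨k', h2⟩ h3).symm.trans e)]
  have := simple_sCo2
  have := co2Equiv.symm.isSimpleGroup
  have := Finite.of_equiv _ co2Equiv.toEquiv
  obtain ⟨hS, e, he⟩ := quot_setting hz E hzY cz hcen hna hτs (fun l => by
      rw [qth_mem_qQ hz E.le_cent]
      constructor
      · intro h
        exact ⟨l, ⟨(M.mt_mem (hτ' l 1 (by rw [h, map_one]))).2 (Or.inl rfl), l.2.1⟩, by simp⟩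
      · rintro ⟨x, hx, h⟩
        have h2 := (R.mul_mem_cancel_right (inv_mem (mem_inf.1 hx).1)).1 (zpowers_le_of_mem htR h)
        exact (hτ l 1 (M.mt_of_mem h2)).trans (map_one _))
    (pCore_eq_bot_of_simple (by rw [← Nat.card_congr co2Equiv.toEquiv, card_sCo2]; norm_num))
    (fun l hl => by
      let N : Subgroup ↥(centralizer {t} ⊓ centralizer {z}) :=
        { carrier := {l | ∀ x ∈ R ⊓ centralizer {t}, l * x * (l : G)⁻¹ = x ∨ l * x * (l : G)⁻¹ = t * x}
          one_mem' := fun x _ => Or.inl (by simp)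
          mul_mem' := fun {a b} ha hb x hx => by
            have e1 : (a * b : G) * x * (a * b : G)⁻¹ = a * (b * x * (b : G)⁻¹) * (a : G)⁻¹ := by group
            have e2 : (a : G) * (t * x) * (a : G)⁻¹ = t * (a * x * (a : G)⁻¹) := by
              rw [← mul_assoc, mem_centralizer_singleton_iff.1 a.2.1]; group
            rw [coe_mul, e1]
            rcases hb x hx with e | e <;> rw [e]
            · exact ha x hx
            · rw [e2]; rcases ha x hx with e | e <;> rw [e]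
              · exact Or.inr rfl
              · exact Or.inl (by rw [← mul_assoc, tt, one_mul])
          inv_mem' := fun {a} ha x hx => by
            have e2 : (a : G)⁻¹ * (t * x) * a = t * ((a : G)⁻¹ * x * a) := by
              rw [← mul_assoc, mem_centralizer_singleton_iff.1 (inv_mem (mem_inf.1 a.2).1)]; group
            rw [coe_inv, inv_inv]
            rcases ha x hx with e | e
            · left; conv_lhs => rw [← e]
              group
            · right
              rw [← inv_mul_eq_iff_eq_mul, inv_eq_of_mul_eq_one_right tt, ← e2, ← e]; group }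
      have hN : N.Normal := ⟨fun n hn a x hx => by
        have h2 : (a : G)⁻¹ * x * (a : G)⁻¹⁻¹ ∈ R ⊓ centralizer {t} :=
          mem_inf.2 ⟨M.conj_mem (inv_mem (mem_inf.1 a.2).2) hx.1, mul_mem (mul_mem
            (inv_mem (mem_inf.1 a.2).1) (mem_inf.1 hx).2) (inv_mem (inv_mem (mem_inf.1 a.2).1))⟩
        have e1 : (a * n * (a : G)⁻¹ : G) * x * (a * n * (a : G)⁻¹ : G)⁻¹ =
          a * (n * ((a : G)⁻¹ * x * (a : G)⁻¹⁻¹) * (n : G)⁻¹) * (a : G)⁻¹ := by group
        rw [coe_mul, coe_mul, coe_inv, e1]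
        rcases hn _ h2 with e | e <;> rw [e]
        · left; group
        · right; rw [← mul_assoc, mem_centralizer_singleton_iff.1 a.2.1]; group⟩
      rcases (hN.map τ hτs).eq_bot_or_eq_top with h | h
      · refine (Subgroup.eq_bot_iff_forall _).1 h _ ⟨l, fun x hx => ?_, rfl⟩
        exact (hY.1 (hl x hx)).imp mul_inv_eq_one.1 mul_inv_eq_iff_eq_mul.1
      · exfalso
        obtain ⟨k, k1, k2⟩ := ortho_pair sqNorm_leechU
          (w := v44 (some 1) (some 2) 1 1 (by norm_num)) (by decide) (by decide)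
        obtain ⟨n, hn, e⟩ : co2Equiv ⟨k, k1⟩ ∈ N.map τ := h ▸ trivial
        obtain ⟨x, hx⟩ := M.ex_x (v44 (some 1) (some 2) 1 1 (by norm_num))
        have h2 := M.mt_conj (hτ' n _ e) hx
        rw [k2] at h2
        rcases hn x (M.mem_inf_cent hx ht (by decide)) with e | e <;> rw [e] at h2
        · obtain ⟨w, hw⟩ := M.congr h2 hx
          exact absurd (short_congr (by decide) (by decide) (by decide) hw) (by decide)
        · obtain ⟨w, hw⟩ := M.congr h2 (M.mul ht hx)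
          exact absurd (short_congr (by decide) (by decide) (by decide) hw) (by decide))
    (w := 11) (by
      have h2 := es_card_cent E htR t1 tz
      rw [inf_eq_left.2 (zpowers_le_of_mem (show t ∈ R ⊓ centralizer {t} from
        ⟨htR, mem_centralizer_singleton_iff.2 rfl⟩)), card_zpowers_invol tt t1, inf_comm]
      rw [M.card] at h2; omega)
    (M.baby_weak hs hne ht hc)
  have E' := es_qQ hz E hzY hcen hna
  let el : ∀ y ∈ R ⊓ centralizer {t}, qQ R (centralizer {t}) (zpowers t) hz := fun y hy =>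
    ⟨qth _ _ hz ⟨y, hy.2, E.le_cent hy.1⟩, _, hy.1, rfl⟩
  have hκ : ∀ y hy, (QuotientGroup.mk (el y hy) : _ ⧸ center _) = 1 ↔
      (y = 1 ∨ y = z) ∨ y = t ∨ y = t * z := fun y hy => by
    rw [QuotientGroup.eq_one_iff, ← mem_map_iff_mem (subtype_injective _), E'.center_eq, E'.mem_zp]
    refine (or_congr (qth_eq_one hz) (qth_eq_iff hz)).trans ?_
    simp only [hY, mul_inv_eq_iff_eq_mul, one_mul]
    tauto
  choose l hl using M.ex_x
  have hm : ∀ (x : leechPerpU) {y}, Ov x y → y ∈ R ⊓ centralizer {t} := fun x _ h =>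
    M.mem_inf_cent h ht x.2
  have hψ : ∀ (x : leechPerpU) y (h : Ov x y), (QuotientGroup.mk (el _ (hm x (hl x))) :
      _ ⧸ center _) = QuotientGroup.mk (el y (hm x h)) := fun x y h => by
    rw [QuotientGroup.eq, ← QuotientGroup.eq_one_iff]
    refine (hκ _ (mul_mem (inv_mem (hm x (hl x))) (hm x h))).2 (Or.inl ?_)
    rcases M.eq_or (hl x) h with e | e <;> simp [e]
  refine ⟨_, _, hQn, hS, e, fun x => QuotientGroup.mk (el _ (hm x (hl x))),
    fun x y => hψ (x + y) _ (M.mul (hl x) (hl y)), fun q => ?_, fun x => ?_, ?_⟩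
  · obtain ⟨⟨_, m, hm', rfl⟩, rfl⟩ := QuotientGroup.mk_surjective q
    obtain ⟨v, hv⟩ := M.ex_v m hm'
    exact ⟨⟨v, (M.comm_iff hv ht).1 (mem_centralizer_singleton_iff.1 m.2.1)⟩, hψ _ _ hv⟩
  · rw [hκ _ (hm x (hl x)), M.triv (hl x)]
    refine or_congr_right ⟨fun h => ?_, fun ⟨w, hw⟩ => M.eq_or (hw ▸ M.add_two ht w) (hl x)⟩
    have h2 : ∃ w, (x : leechLattice) - leechU = 2 • w := by
      rcases h with h | h
      exacts [M.congr (hl x) (h ▸ ht), M.congr (hl x) (h ▸ M.mul_z ht)]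
    exact h2.imp fun w hw => by rw [← two_nsmul, ← hw, add_sub_cancel]
  · intro h a ha x y hxy q hq
    obtain ⟨m, rfl⟩ := qth_surjective hz cz h
    obtain ⟨k, rfl⟩ := co2Equiv.surjective a
    have h2 := M.mt_conj (hτ' m k ((he m).symm.trans ha)) (hl x)
    rw [show (k : Co0) • (x : leechLattice) = y from hxy] at h2
    exact (hψ y _ h2).trans (mk_conj_congr (qth _ _ hz m) hq)

end MT

end Cfsg.Lib.Leech
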