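import Cfsg.Agent.Lib.Leech.MonT2
import Cfsg.Agent.Lib.Layer.FStar

/-! The extraspecial-centralizer setting in a section `H / Y`. -/

namespace Cfsg.Lib.Leech

open Subgroup MulAction Spor Cfsg.Lib.Known2 Cfsg.Lib.Core Cfsg.Lib.Amalg

theorem exists_quot_equiv {L D T : Type*} [Group L] [Group D] [Group T] {θ : L →* D}
    (hθ : Function.Surjective θ) {Q : Subgroup D} [Q.Normal] {τ : L →* T}
    (hτ : Function.Surjective τ) (hk : ∀ l, τ l = 1 ↔ θ l ∈ Q) :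
    ∃ e : D ⧸ Q ≃* T, ∀ l, e (QuotientGroup.mk (θ l)) = τ l := by
  have h1 : Function.Surjective ((QuotientGroup.mk' Q).comp θ) :=
    (QuotientGroup.mk'_surjective Q).comp hθ
  have h2 : ((QuotientGroup.mk' Q).comp θ).ker = τ.ker := by
    ext l; rw [MonoidHom.mem_ker, MonoidHom.mem_ker, hk]; exact QuotientGroup.eq_one_iff _
  refine ⟨(QuotientGroup.quotientKerEquivOfSurjective _ h1).symm.trans
    ((QuotientGroup.quotientMulEquivOfEq h2).trans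
      (QuotientGroup.quotientKerEquivOfSurjective _ hτ)), fun l => ?_⟩
  rw [MulEquiv.trans_apply, (MulEquiv.symm_apply_eq _).2
    (show (QuotientGroup.mk (θ l) : D ⧸ Q) = QuotientGroup.quotientKerEquivOfSurjective _ h1
      (QuotientGroup.mk l) from rfl)]
  rfl

theorem fstar_eq_of {D T : Type*} [Group D] [Finite D] [Group T] {Q : Subgroup D} [Q.Normal]
    (e : D ⧸ Q ≃* T) (hO : pCore 2 T = ⊥) (hQ : IsPGroup 2 Q) (hc : centralizer (Q : Set D) ≤ Q) :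
    generalizedFittingSubgroup D = Q := by
  have := Fact.mk Nat.prime_two
  have h1 : pCore 2 D = Q := by
    rw [← comap_pCore_quotient Q hQ, (pCore_eq_bot_iff_of_equiv e).2 hO, MonoidHom.comap_bot,
      QuotientGroup.ker_mk']
  rw [← h1] at hc ⊢
  exact Layer.fstar_eq_pCore_iff.2 hc

variable {G : Type*} [Group G]

/-- the image of `z` in `H / Y`. -/
abbrev qbar (H Y : Subgroup G) [(Y.subgroupOf H).Normal] {z : G} (hz : z ∈ H) : H ⧸ Y.subgroupOf H :=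
  QuotientGroup.mk ⟨z, hz⟩

/-- the map from `C_H(z)` to the centralizer of the image of `z`. -/
def qth (H Y : Subgroup G) [(Y.subgroupOf H).Normal] {z : G} (hz : z ∈ H) :
    ↥(H ⊓ centralizer {z}) →* centralizer ({qbar H Y hz} : Set (H ⧸ Y.subgroupOf H)) :=
  ((QuotientGroup.mk' _).comp (inclusion inf_le_left)).codRestrict _ fun l =>
    mem_centralizer_singleton_iff.2 (congrArg (QuotientGroup.mk (s := Y.subgroupOf H))
      (Subtype.ext (mem_centralizer_singleton_iff.1 l.2.2) :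
        inclusion inf_le_left l * ⟨z, hz⟩ = ⟨z, hz⟩ * inclusion inf_le_left l))

/-- the image of `R ∩ H`. -/
abbrev qQ (R H Y : Subgroup G) [(Y.subgroupOf H).Normal] {z : G} (hz : z ∈ H) :
    Subgroup (centralizer ({qbar H Y hz} : Set (H ⧸ Y.subgroupOf H))) :=
  (R.subgroupOf _).map (qth H Y hz)

section
variable {R H Y : Subgroup G} [(Y.subgroupOf H).Normal] {z : G} (hz : z ∈ H)

theorem coe_qth (l : ↥(H ⊓ centralizer {z})) : (qth H Y hz l : H ⧸ Y.subgroupOf H) =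
    QuotientGroup.mk ⟨l, l.2.1⟩ := rfl

theorem qth_eq_one {l : ↥(H ⊓ centralizer {z})} : qth H Y hz l = 1 ↔ (l : G) ∈ Y :=
  Subtype.ext_iff.trans (QuotientGroup.eq_one_iff _)

theorem qth_eq_iff {l m : ↥(H ⊓ centralizer {z})} :
    qth H Y hz l = qth H Y hz m ↔ (l : G) * (m : G)⁻¹ ∈ Y := by
  rw [← mul_inv_eq_one, ← map_inv, ← map_mul, qth_eq_one]; rfl

theorem qth_surjective (cz : ∀ h ∈ H, h * z * h⁻¹ * z⁻¹ ∈ Y → h * z = z * h) :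
    Function.Surjective (qth H Y hz) := by
  rintro ⟨d, hd⟩
  obtain ⟨⟨h, hh⟩, rfl⟩ := QuotientGroup.mk_surjective d
  refine ⟨⟨h, hh, mem_centralizer_singleton_iff.2 (cz h hh ?_)⟩, rfl⟩
  have := mem_centralizer_singleton_iff.1 hd
  rw [← mul_inv_eq_one, mul_inv_rev, ← mul_assoc] at this
  have h2 : (⟨h, hh⟩ * ⟨z, hz⟩ * ⟨h, hh⟩⁻¹ * ⟨z, hz⟩⁻¹ : H) ∈ Y.subgroupOf H :=
    (QuotientGroup.eq_one_iff _).1 this
  exact h2

theorem qQ_normal (cz : ∀ h ∈ H, h * z * h⁻¹ * z⁻¹ ∈ Y → h * z = z * h)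
    (hn : ∀ h ∈ centralizer ({z} : Set G), ∀ x ∈ R, h * x * h⁻¹ ∈ R) : (qQ R H Y hz).Normal :=
  Normal.map (show (R.subgroupOf (H ⊓ centralizer {z})).Normal from
    ⟨fun x hx h => hn h h.2.2 x hx⟩) _ (qth_surjective hz cz)

theorem es_qQ (E : ES R z) (hzY : z ∉ Y)
    (hcen : ∀ x ∈ R ⊓ H, (∀ y ∈ R ⊓ H, x * y = y * x) → x ∈ Y ∨ x * z ∈ Y)
    (hna : ∃ x ∈ R ⊓ H, ∃ y ∈ R ⊓ H, x * y ≠ y * x) :
    ES (qQ R H Y hz) (qth H Y hz ⟨z, hz, mem_centralizer_singleton_iff.2 rfl⟩) := by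
  have key : ∀ x y : ↥(H ⊓ centralizer {z}), (x : G) ∈ R → (y : G) ∈ R →
      qth H Y hz x * qth H Y hz y = qth H Y hz y * qth H Y hz x → (x : G) * y = y * x := by
    intro x y hx hy e
    by_contra hn
    rw [← map_mul, ← map_mul, qth_eq_iff, coe_mul, coe_mul, E.anti hx hy hn,
      E.cen _ (mul_mem hy hx), mul_inv_cancel_right] at e
    exact hzY e
  refine ⟨⟨_, E.mem, rfl⟩, fun e => hzY ((qth_eq_one hz).1 e), ?_, ?_, ?_, ?_, ?_, ?_⟩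
  · rw [← map_mul, ← map_one (qth H Y hz)]; exact congrArg _ (Subtype.ext E.sq)
  · rintro _ ⟨x, hx, rfl⟩
    rw [← map_mul, ← map_mul]; exact congrArg _ (Subtype.ext (E.cen x hx))
  · rintro _ ⟨x, hx, rfl⟩ hc
    refine (hcen x ⟨hx, x.2.1⟩ fun y hy => key x ⟨y, hy.2, E.le_cent hy.1⟩ hx hy.1
      (hc _ ⟨_, hy.1, rfl⟩)).imp (qth_eq_one hz).2 fun e => (qth_eq_iff hz).2 ?_
    rwa [E.inv_z]
  · rintro _ ⟨x, hx, rfl⟩ _ ⟨y, hy, rfl⟩
    simp only [← map_mul]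
    exact (E.comm x hx y hy).imp (fun e => congrArg _ (Subtype.ext e))
      fun e => congrArg _ (Subtype.ext e)
  · rintro _ ⟨x, hx, rfl⟩
    rw [← map_mul, ← map_one (qth H Y hz)]
    exact (E.sq_mem x hx).imp (fun e => congrArg _ (Subtype.ext e))
      fun e => congrArg _ (Subtype.ext e)
  · obtain ⟨x, hx, y, hy, e⟩ := hna
    exact ⟨_, ⟨⟨x, hx.2, E.le_cent hx.1⟩, hx.1, rfl⟩, _, ⟨⟨y, hy.2, E.le_cent hy.1⟩, hy.1, rfl⟩,
      fun e' => e (key _ _ hx.1 hy.1 e')⟩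

theorem card_qQ (hR : R ≤ centralizer {z}) :
    Nat.card (qQ R H Y hz) * Nat.card ↥(Y ⊓ (R ⊓ H)) = Nat.card ↥(R ⊓ H) := by
  have h1 := card_map_mul_card_inf_ker (qth H Y hz) (R.subgroupOf _)
  have h2 : (qth H Y hz).ker ⊓ R.subgroupOf _ = (Y ⊓ (R ⊓ H)).subgroupOf _ := by
    ext l
    simp only [mem_inf, MonoidHom.mem_ker, qth_eq_one, mem_subgroupOf, (mem_inf.1 l.2).1, and_true]
  have h3 : R.subgroupOf (H ⊓ centralizer {z}) = (R ⊓ H).subgroupOf _ := by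
    ext l; simp only [mem_inf, mem_subgroupOf, (mem_inf.1 l.2).1, and_true]
  have h4 : R ⊓ H ≤ H ⊓ centralizer {z} := le_inf inf_le_right (inf_le_left.trans hR)
  rw [h2, card_subgroupOf_of_le (inf_le_right.trans h4)] at h1
  rw [h1, h3, card_subgroupOf_of_le h4]

theorem quot_setting [Finite G] (E : ES R z) (hzY : z ∉ Y)
    (cz : ∀ h ∈ H, h * z * h⁻¹ * z⁻¹ ∈ Y → h * z = z * h) [(qQ R H Y hz).Normal]
    (hcen : ∀ x ∈ R ⊓ H, (∀ y ∈ R ⊓ H, x * y = y * x) → x ∈ Y ∨ x * z ∈ Y)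
    (hna : ∃ x ∈ R ⊓ H, ∃ y ∈ R ⊓ H, x * y ≠ y * x)
    {T : Type*} [Group T] {τ : ↥(H ⊓ centralizer {z}) →* T} (hτ : Function.Surjective τ)
    (hk : ∀ l, τ l = 1 ↔ qth H Y hz l ∈ qQ R H Y hz) (hO : pCore 2 T = ⊥)
    (hc : ∀ l : ↥(H ⊓ centralizer {z}),
      (∀ x ∈ R ⊓ H, l * x * (l : G)⁻¹ * x⁻¹ ∈ Y) → τ l = 1)
    {w : ℕ} (hcard : Nat.card ↥(R ⊓ H) = 2 ^ (2 * w + 1) * Nat.card ↥(Y ⊓ (R ⊓ H)))
    (hw : ∃ g ∈ H, g * z * g⁻¹ ∈ R ∧ g * z ≠ z * g) :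
    IsExtraspecialCentralizerSetting (qbar H Y hz) (qQ R H Y hz) w ∧
      ∃ e : _ ⧸ qQ R H Y hz ≃* T, ∀ l, e (QuotientGroup.mk (qth H Y hz l)) = τ l := by
  have hs := qth_surjective hz cz
  have E' := es_qQ hz E hzY hcen hna
  obtain ⟨e, he⟩ := exists_quot_equiv hs hτ hk
  refine ⟨⟨?_, fstar_eq_of e hO E'.isPGroup fun d hd => ?_, E'.isExtraspecial, ?_, ?_⟩, e, he⟩
  · exact (orderOf_coe _).trans E'.orderOf_eq
  · obtain ⟨l, rfl⟩ := hs d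
    refine (hk l).1 (hc l fun x hx => ?_)
    have := hd _ ⟨⟨x, hx.2, E.le_cent hx.1⟩, hx.1, rfl⟩
    rw [← map_mul, ← map_mul, eq_comm, qth_eq_iff] at this
    simpa [mul_assoc] using this
  · have := card_qQ (Y := Y) hz E.le_cent
    rw [hcard] at this
    exact Nat.eq_of_mul_eq_mul_right Nat.card_pos this
  · obtain ⟨g, hg, h1, h2⟩ := hw
    let l : ↥(H ⊓ centralizer {z}) := ⟨_, H.mul_mem (H.mul_mem hg hz) (H.inv_mem hg), E.le_cent h1⟩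
    refine ⟨QuotientGroup.mk ⟨g, hg⟩, ⟨(qth H Y hz l).2, l, h1, rfl⟩, fun e => h2 (cz g hg ?_)⟩
    rw [← mul_inv_eq_one] at e
    have h2 : (⟨g, hg⟩ * ⟨z, hz⟩ * ⟨g, hg⟩⁻¹ * ⟨z, hz⟩⁻¹ : H) ∈ Y.subgroupOf H :=
      (QuotientGroup.eq_one_iff _).1 e
    exact h2

theorem qth_mem_qQ {l : ↥(H ⊓ centralizer {z})} (hR : R ≤ centralizer {z}) :
    qth H Y hz l ∈ qQ R H Y hz ↔ ∃ x ∈ R ⊓ H, (l : G) * x⁻¹ ∈ Y :=
  ⟨fun ⟨x, hx, e⟩ => ⟨x, ⟨hx, x.2.1⟩, (qth_eq_iff hz).1 e.symm⟩,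
    fun ⟨x, hx, e⟩ => ⟨⟨x, hx.2, hR hx.1⟩, hx.1, ((qth_eq_iff hz).2 e).symm⟩⟩

end

theorem exists_tau {z : G} {π : centralizer ({z} : Set G) →* Co1} {L : Subgroup G}
    {K : Subgroup Co0} {T : Type*} [Group T] (σ : K →* T) (h1 : ∀ l ∈ L, ∃ k ∈ K, Mt π l k)
    (h2 : ∀ h : negOne ∈ K, σ ⟨negOne, h⟩ = 1) :
    ∃ τ : L →* T, ∀ (l : L) (k : K), Mt π l k → τ l = σ k := by
  have key : ∀ (l : G) (k k' : K), Mt π l k → Mt π l k' → σ k' = σ k := fun l k k' a b => by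
    rcases a.eq_or b with e | e
    · rw [Subtype.ext e]
    · have h3 : negOne ∈ K := by
        have := mul_mem k'.2 (inv_mem k.2); rwa [e, mul_inv_cancel_right] at this
      rw [show k' = ⟨negOne, h3⟩ * k from Subtype.ext e, map_mul, h2, one_mul]
  choose f hf hf' using h1
  refine ⟨MonoidHom.mk' (fun l => σ ⟨f l l.2, hf l l.2⟩) fun a b => ?_,
    fun l k h => key l k _ h (hf' l l.2)⟩
  rw [← map_mul]
  exact key _ _ _ ((hf' a a.2).mul (hf' b b.2)) (hf' _ _)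

end Cfsg.Lib.Leech
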