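import Cfsg.Agent.Lib.Leech.SgnGrp
import Cfsg.Agent.Lib.Known2.ES

/-! Groups of Monster type, elementwise. -/

namespace Cfsg.Lib.Leech

open Subgroup MulAction Spor Cfsg.Lib.Known2 Cfsg.Lib.Core Cfsg.Lib.Amalg

variable {G : Type*} [Group G]

theorem es_map {H : Type*} [Group H] {Q : Subgroup H} {z : H} (h : ES Q z) (f : H →* G)
    (hf : Function.Injective f) : ES (Q.map f) (f z) where
  mem := mem_map_of_mem f h.mem
  ne := fun e => h.ne (hf (e.trans (map_one f).symm))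
  sq := by rw [← map_mul, h.sq, map_one]
  cen := by rintro _ ⟨x, hx, rfl⟩; rw [← map_mul, h.cen x hx, map_mul]
  of_cen := by
    rintro _ ⟨x, hx, rfl⟩ hc
    refine (h.of_cen x hx fun y hy => hf ?_).imp (fun e => by rw [e, map_one]) fun e => by rw [e]
    rw [map_mul, map_mul]; exact hc _ (mem_map_of_mem f hy)
  comm := by
    rintro _ ⟨x, hx, rfl⟩ _ ⟨y, hy, rfl⟩
    simp only [← map_mul]
    exact (h.comm x hx y hy).imp (congrArg f) (congrArg f)
  sq_mem := by
    rintro _ ⟨x, hx, rfl⟩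
    rw [← map_mul, ← map_one f]
    exact (h.sq_mem x hx).imp (congrArg f) (congrArg f)
  nonab := by
    obtain ⟨x, hx, y, hy, e⟩ := h.nonab
    exact ⟨_, mem_map_of_mem f hx, _, mem_map_of_mem f hy, fun e' => e (hf (by simpa using e'))⟩

theorem es_card_cent {Q : Subgroup G} {z x : G} (h : ES Q z) (hx : x ∈ Q) (h1 : x ≠ 1)
    (h2 : x ≠ z) : Nat.card ↥(centralizer {x} ⊓ Q) * 2 = Nat.card Q := by
  obtain ⟨a, ha, hxa⟩ := h.exists_anti hx h1 h2
  rw [← card_inf_mul_relIndex (centralizer {x}) Q, relIndex_eq_two_iff.2 ⟨a, ha, fun b hb => ?_⟩]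
  have := h.mul_comm_iff hx hb ha
  simp only [mem_centralizer_singleton_iff, eq_comm (b := x * _), this, xor_iff_iff_not]
  tauto

theorem es_exists_conj {Q : Subgroup G} {z x : G} (h : ES Q z) (hx : x ∈ Q) (h1 : x ≠ 1)
    (h2 : x ≠ z) : ∃ a ∈ Q, a * x * a⁻¹ = x * z := by
  obtain ⟨a, ha, hxa⟩ := h.exists_anti hx h1 h2
  exact ⟨a, ha, h.conj_anti ha hx (Ne.symm hxa)⟩

/-- The elementwise form of the Monster type hypothesis: `Ov v x` says that `x ∈ R` lies over
the class of `v` modulo `2Λ`. -/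
structure MT (z : G) (R : Subgroup G) (π : centralizer ({z} : Set G) →* Co1)
    (Ov : leechLattice → G → Prop) : Prop where
  es : ES R z
  card : Nat.card R = 2 ^ 25
  surj : Function.Surjective π
  ker : ∀ h, π h = 1 ↔ (h : G) ∈ R
  mem : ∀ {v x}, Ov v x → x ∈ R
  ex_v : ∀ x ∈ R, ∃ v, Ov v x
  ex_x : ∀ v, ∃ x, Ov v x
  mul : ∀ {v w x y}, Ov v x → Ov w y → Ov (v + w) (x * y)
  triv : ∀ {v x}, Ov v x → ((x = 1 ∨ x = z) ↔ ∃ w, v = w + w)
  one : ∀ w, Ov (w + w) 1
  zero : Ov 0 z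
  conj : ∀ {h g v x}, π h = mk1 g → Ov v x → Ov (g • v) (h * x * (h : G)⁻¹)

/-- `x` lies over the class of `v`. -/
def OvOf {z : G} (Q : Subgroup (centralizer ({z} : Set G))) (ψ : leechLattice → Q ⧸ center Q)
    (v : leechLattice) (x : G) : Prop :=
  ∃ q : Q, ((q : centralizer ({z} : Set G)) : G) = x ∧ ψ v = QuotientGroup.mk q

theorem MT.of [Finite G] {z : G} {Q : Subgroup (centralizer ({z} : Set G))} [Q.Normal]
    (hS : IsExtraspecialCentralizerSetting z Q 12) {e : centralizer ({z} : Set G) ⧸ Q ≃* Co1}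
    {ψ : leechLattice → Q ⧸ center Q} (hψ : IsLeechModTwoIso Q e ψ) :
    MT z (Q.map (centralizer ({z} : Set G)).subtype) (e.toMonoidHom.comp (QuotientGroup.mk' Q))
      (OvOf Q ψ) := by
  obtain ⟨h2, -, hE, hc, -⟩ := hS
  obtain ⟨hadd, hsurj, hker, hconj⟩ := hψ
  obtain ⟨z', hz', hes⟩ := exists_ES hE
  have hk : ∀ h, (e.toMonoidHom.comp (QuotientGroup.mk' Q)) h = 1 ↔ h ∈ Q := fun h =>
    (map_eq_one_iff _ e.injective).trans (QuotientGroup.eq_one_iff h)
  let zc : centralizer ({z} : Set G) := ⟨z, mem_centralizer_singleton_iff.2 rfl⟩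
  have hzc : ∀ x : centralizer ({z} : Set G), x * zc = zc * x := fun x =>
    Subtype.ext (mem_centralizer_singleton_iff.1 x.2)
  have hzQ : zc ∈ Q := by
    obtain ⟨g, hg⟩ := mk1_surjective (e (QuotientGroup.mk zc))
    rw [← hk]
    refine hg.symm.trans (mk1_eq_one.2 (eq_of_triv_mod_two fun v => ?_))
    obtain ⟨q, hq⟩ := QuotientGroup.mk_surjective (ψ v)
    have h3 := hconj zc g hg v q hq.symm
    have h4 : ψ (g • v) = ψ v := by
      rw [h3, ← hq]; congr 1; ext : 1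
      show zc * q * zc⁻¹ = q
      rw [← hzc, mul_inv_cancel_right]
    have h5 := hadd (g • v - v) v
    rw [sub_add_cancel, h4, right_eq_mul, hker] at h5
    exact h5.imp fun w hw => by rw [hw, two_nsmul]
  have hz : z' = zc := by
    refine ((hes.of_cen zc hzQ fun y _ => (hzc y).symm).resolve_left fun e => ?_).symm
    have : z = 1 := congrArg Subtype.val e
    rw [this, orderOf_one] at h2; omega
  subst hz
  have hcen : ∀ q : Q, (QuotientGroup.mk q : Q ⧸ center Q) = 1 ↔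
      ((q : centralizer ({z} : Set G)) : G) = 1 ∨ ((q : centralizer ({z} : Set G)) : G) = z := by
    intro q
    rw [QuotientGroup.eq_one_iff, ← mem_map_iff_mem Q.subtype_injective, hz', hes.mem_zp]
    exact or_congr Subtype.ext_iff Subtype.ext_iff
  refine ⟨es_map hes _ (subtype_injective _), by rw [card_map_subtype, hc],
    e.surjective.comp (QuotientGroup.mk'_surjective Q),
    fun h => (hk h).trans (mem_map_iff_mem (subtype_injective _)).symm, ?_, ?_, fun v => ?_, ?_, ?_,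
    fun w => ⟨1, rfl, (hker _).2 ⟨w, rfl⟩⟩,
    ⟨⟨zc, hzQ⟩, rfl, ((hker _).2 ⟨0, by simp⟩).trans ((hcen _).2 (Or.inr rfl)).symm⟩, ?_⟩
  · rintro v _ ⟨q, rfl, -⟩; exact ⟨q, q.2, rfl⟩
  · rintro _ ⟨q, hq, rfl⟩
    obtain ⟨v, hv⟩ := hsurj (QuotientGroup.mk ⟨q, hq⟩)
    exact ⟨v, _, rfl, hv⟩
  · obtain ⟨q, hq⟩ := QuotientGroup.mk_surjective (ψ v)
    exact ⟨_, q, rfl, hq.symm⟩
  · rintro v w _ _ ⟨q, rfl, hq⟩ ⟨r, rfl, hr⟩
    exact ⟨q * r, rfl, by rw [hadd, hq, hr]; rfl⟩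
  · rintro v _ ⟨q, rfl, hq⟩
    rw [← hcen, ← hq, hker]
  · rintro h g v _ hg ⟨q, rfl, hq⟩
    exact ⟨_, rfl, hconj h g hg.symm v q hq⟩

/-- `h ∈ C(z)` and `g ∈ Co0` have the same image in `Co1`. -/
def Mt {z : G} (π : centralizer ({z} : Set G) →* Co1) (h : G) (g : Co0) : Prop :=
  ∃ hh : h ∈ centralizer ({z} : Set G), π ⟨h, hh⟩ = mk1 g

/-- The preimage in `Co0` of the image in `Co1` of `H ∩ C(z)`. -/
noncomputable def img {z : G} (π : centralizer ({z} : Set G) →* Co1) (H : Subgroup G) :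
    Subgroup Co0 :=
  ((H.subgroupOf (centralizer {z})).map π).comap mk1

section
variable {z : G} {π : centralizer ({z} : Set G) →* Co1}

theorem Mt.mul {h h' : G} {g g' : Co0} (a : Mt π h g) (b : Mt π h' g') : Mt π (h * h') (g * g') :=
  ⟨mul_mem a.1 b.1, by rw [map_mul, ← a.2, ← b.2, ← map_mul]; rfl⟩

theorem Mt.inv {h : G} {g : Co0} (a : Mt π h g) : Mt π h⁻¹ g⁻¹ :=
  ⟨inv_mem a.1, by rw [map_inv, ← a.2, ← map_inv]; rfl⟩

theorem Mt.one : Mt π 1 1 := ⟨one_mem _, by rw [map_one, ← map_one π]; rfl⟩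

theorem Mt.pow {h : G} {g : Co0} (a : Mt π h g) (n : ℕ) : Mt π (h ^ n) (g ^ n) := by
  induction n with
  | zero => simpa using Mt.one
  | succ n ih => rw [pow_succ, pow_succ]; exact ih.mul a

theorem Mt.neg {h : G} {g : Co0} (a : Mt π h g) : Mt π h (negOne * g) :=
  ⟨a.1, by rw [map_mul, mk1_negOne, one_mul, a.2]⟩

theorem Mt.eq_or {h : G} {g g' : Co0} (a : Mt π h g) (b : Mt π h g') : g' = g ∨ g' = negOne * g :=
  mk1_eq_iff.1 (b.2.symm.trans a.2)

theorem exists_mt {h : G} (hh : h ∈ centralizer ({z} : Set G)) : ∃ g, Mt π h g := by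
  obtain ⟨g, hg⟩ := mk1_surjective (π ⟨h, hh⟩); exact ⟨g, hh, hg.symm⟩

theorem mem_img {H : Subgroup G} {g : Co0} : g ∈ img π H ↔ ∃ h ∈ H, Mt π h g :=
  ⟨fun ⟨h, h1, h2⟩ => ⟨h, h1, h.2, h2⟩, fun ⟨h, h1, h2, h3⟩ => ⟨⟨h, h2⟩, h1, h3⟩⟩

theorem negOne_mem_img (H : Subgroup G) : negOne ∈ img π H :=
  mem_img.2 ⟨1, one_mem _, by simpa using Mt.one.neg⟩

theorem map_img (H : Subgroup G) : (img π H).map mk1 = (H.subgroupOf (centralizer {z})).map π :=
  map_comap_eq_self_of_surjective mk1_surjective _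

end

namespace MT

variable {z : G} {R : Subgroup G} {π : centralizer ({z} : Set G) →* Co1}
  {Ov : leechLattice → G → Prop} (M : MT z R π Ov)
include M

theorem mul_z {v x} (h : Ov v x) : Ov v (x * z) := by simpa using M.mul h M.zero

theorem add_two {v x} (h : Ov v x) (w) : Ov (v + (w + w)) x := by simpa using M.mul h (M.one w)

theorem inv {v x} (h : Ov v x) : Ov (-v) x⁻¹ := by
  obtain ⟨y, hy⟩ := M.ex_x (-v)
  rcases (M.triv (M.mul h hy)).2 ⟨0, by simp⟩ with e | e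
  · rwa [← eq_inv_of_mul_eq_one_right e]
  · have := M.mul_z hy
    rwa [eq_inv_mul_of_mul_eq e, mul_assoc, M.es.sq, mul_one] at this

theorem eq_or {v x y} (h : Ov v x) (h' : Ov v y) : y = x ∨ y = x * z := by
  refine ((M.triv (M.mul (M.inv h) h')).2 ⟨0, by simp⟩).imp (fun e => ?_) fun e => ?_
  · exact (inv_mul_eq_one.1 e).symm
  · exact inv_mul_eq_iff_eq_mul.1 e

theorem congr {v w x} (h : Ov v x) (h' : Ov w x) : ∃ u, v - w = 2 • u := by
  obtain ⟨u, hu⟩ := (M.triv (M.mul h (M.inv h'))).1 (Or.inl (mul_inv_cancel x))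
  exact ⟨u, by rw [sub_eq_add_neg, hu, two_nsmul]⟩

theorem of_congr {v w u x} (h : Ov w x) (e : v - w = 2 • u) : Ov v x := by
  have := M.add_two h u
  rwa [← two_nsmul, ← e, add_sub_cancel] at this

theorem exists_short {x} (hx : x ∈ R) (h1 : x ≠ 1) (h2 : x ≠ z) : ∃ v, Ov v x ∧
    (sqNorm (v : GolayPt → ℤ) = 32 ∨ sqNorm (v : GolayPt → ℤ) = 48 ∨
      sqNorm (v : GolayPt → ℤ) = 64) := by
  obtain ⟨v, hv⟩ := M.ex_v x hx
  obtain ⟨y, w, rfl, hy⟩ := leech_cases v
  have h3 : Ov y x := M.of_congr (u := -w) hv (by rw [two_nsmul]; abel)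
  refine ⟨y, h3, hy.resolve_left ?_⟩
  rintro rfl
  exact ((M.triv h3).2 ⟨0, by simp⟩).elim h1 h2

theorem ne_of_short {v x} (h : Ov v x) (hv : sqNorm (v : GolayPt → ℤ) = 32 ∨
    sqNorm (v : GolayPt → ℤ) = 48 ∨ sqNorm (v : GolayPt → ℤ) = 64) : x ≠ 1 ∧ x ≠ z :=
  not_or.1 fun e => let ⟨w, hw⟩ := (M.triv h).1 e; not_two_of_norm hv w hw

theorem exists_h (g : Co0) : ∃ h, Mt π h g := by
  obtain ⟨h, hh⟩ := M.surj (mk1 g); exact ⟨h, h.2, hh⟩

theorem mt_mem {h g} (a : Mt π h g) : h ∈ R ↔ g = 1 ∨ g = negOne := by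
  rw [← mk1_eq_one, ← a.2, M.ker]

theorem mt_of_mem {h} (a : h ∈ R) : Mt π h 1 :=
  ⟨M.es.le_cent a, by rw [map_one]; exact (M.ker _).2 a⟩

theorem mt_conj {h g v x} (a : Mt π h g) (b : Ov v x) : Ov (g • v) (h * x * h⁻¹) := M.conj a.2 b

theorem conj_mem {h x} (a : h ∈ centralizer ({z} : Set G)) (b : x ∈ R) : h * x * h⁻¹ ∈ R := by
  obtain ⟨g, hg⟩ := exists_mt (π := π) a
  obtain ⟨v, hv⟩ := M.ex_v x b
  exact M.mem (M.mt_conj hg hv)

theorem card_img {H : Subgroup G} (hH : H ≤ centralizer {z}) :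
    Nat.card (img π H) * Nat.card ↥(R ⊓ H) = 2 * Nat.card H := by
  have h1 := card_map_mul_card_inf_ker π (H.subgroupOf (centralizer {z}))
  have h2 : π.ker ⊓ H.subgroupOf (centralizer {z}) = (R ⊓ H).subgroupOf (centralizer {z}) := by
    ext h; simp only [mem_inf, mem_subgroupOf, MonoidHom.mem_ker, M.ker]
  rw [h2, card_subgroupOf_of_le hH, card_subgroupOf_of_le (inf_le_right.trans hH)] at h1
  rw [img, card_comap_mk1, ← h1]; ring

/-- lifting a lattice automorphism to a conjugating element. -/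
theorem exists_conj {v x y} {g : Co0} (h : Ov v x) (h' : Ov (g • v) y) (h1 : x ≠ 1) (h2 : x ≠ z) :
    ∃ c, Mt π c g ∧ c * x * c⁻¹ = y := by
  obtain ⟨c, hc⟩ := M.exists_h g
  rcases M.eq_or (M.mt_conj hc h) h' with e | e
  · exact ⟨c, hc, e.symm⟩
  · obtain ⟨a, ha, h3⟩ := es_exists_conj M.es (M.mem h) h1 h2
    refine ⟨c * a, by simpa using hc.mul (M.mt_of_mem ha), ?_⟩
    rw [e, mul_assoc _ c⁻¹, mem_centralizer_singleton_iff.1 (inv_mem hc.1), ← mul_assoc,
      mul_assoc c x, ← h3]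
    group

theorem twist (k : Co0) : MT z R ((MulAut.conj (mk1 k)⁻¹).toMonoidHom.comp π)
    fun v x => Ov (k • v) x where
  es := M.es
  card := M.card
  surj := (MulAut.conj (mk1 k)⁻¹).surjective.comp M.surj
  ker h := (map_eq_one_iff _ (MulAut.conj (mk1 k)⁻¹).injective).trans (M.ker h)
  mem := M.mem
  ex_v x hx := by
    obtain ⟨v, hv⟩ := M.ex_v x hx; exact ⟨k⁻¹ • v, by rwa [smul_inv_smul]⟩
  ex_x v := M.ex_x _
  mul h h' := by rw [co0_smul_add]; exact M.mul h h'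
  triv {v x} h := (M.triv h).trans ⟨fun ⟨w, hw⟩ => ⟨k⁻¹ • w, by
    rw [← co0_smul_add, ← hw, inv_smul_smul]⟩, fun ⟨w, hw⟩ => ⟨k • w, by rw [hw, co0_smul_add]⟩⟩
  one w := by rw [co0_smul_add]; exact M.one _
  zero := by rw [co0_smul_zero]; exact M.zero
  conj {h g v x} e hv := by
    have := M.conj (h := h) (g := k * g * k⁻¹) (by
      rw [map_mul, map_mul, map_inv, ← e]; simp [mul_assoc]) hv
    rwa [mul_smul, inv_smul_smul, mul_smul] at this

open Classical in
theorem sq_iff {v x} (h : Ov v x) : x * x = 1 ↔ 32 ∣ sqNorm (v : GolayPt → ℤ) := by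
  choose l hl using M.ex_x
  have E := M.es
  let s : G → ZMod 2 := fun x => if x * x = 1 then 0 else 1
  let c : G → G → ZMod 2 := fun x y => if x * y = y * x then 0 else 1
  have hz : ∀ x ∈ R, s (x * z) = s x := fun x hx => by
    have : x * z * (x * z) = x * x := by
      rw [mul_assoc x z, ← mul_assoc z, ← E.cen x hx, mul_assoc x z, E.sq, mul_one]
    simp only [s, this]
  have hs : ∀ {v x}, Ov v x → s (l v) = s x := fun h => by
    rcases M.eq_or h (hl _) with e | e <;> rw [e]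
    exact hz _ (M.mem h)
  have h1 : ∀ x ∈ R, ∀ y ∈ R, s (x * y) = s x + s y + c x y := fun x hx y hy => by
    have hz1 := E.ne
    have hz2 := E.sq
    by_cases e : x * y = y * x
    · have : x * y * (x * y) = x * x * (y * y) := by
        rw [mul_assoc x y, ← mul_assoc y, ← e]; group
      simp only [s, c, this, if_pos e]
      rcases E.sq_mem x hx with a | a <;> rcases E.sq_mem y hy with b | b <;>
        simp [a, b, hz1, hz2] <;> rfl
    · have : x * y * (x * y) = x * x * (y * y) * z := by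
        rw [mul_assoc x y, ← mul_assoc y, E.anti hy hx (Ne.symm e), mul_assoc _ z, ← E.cen y hy]
        group
      simp only [s, c, this, e, if_false]
      rcases E.sq_mem x hx with a | a <;> rcases E.sq_mem y hy with b | b <;>
        simp [a, b, hz1, hz2] <;> rfl
  have h2 : ∀ x ∈ R, ∀ y ∈ R, ∀ w ∈ R, c (x * y) w = c x w + c y w := fun x hx y hy w hw => by
    have := E.mul_comm_iff hw hx hy
    simp only [c, eq_comm (b := w * _), this]
    by_cases a : w * x = x * w <;> by_cases b : w * y = y * w <;> simp [a, b] <;> rfl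
  have hm := fun v => M.mem (hl v)
  have key := quad_unique (fun v => s (l v)) (fun v w => hs (M.add_two (hl v) w))
    (fun u v w => by
      rw [hs (M.mul (M.mul (hl u) (hl v)) (hl w)), hs (M.mul (hl u) (hl v)),
        hs (M.mul (hl u) (hl w)), hs (M.mul (hl v) (hl w)), h1 _ (mul_mem (hm u) (hm v)) _ (hm w),
        h2 _ (hm u) _ (hm v) _ (hm w), h1 _ (hm u) _ (hm v), h1 _ (hm u) _ (hm w),
        h1 _ (hm v) _ (hm w)]
      ring)
    (fun g v => by
      obtain ⟨a, ha⟩ := M.exists_h g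
      rw [hs (M.mt_conj ha (hl v))]
      simp only [s, conj_mul, conj_eq_one_iff])
    (by
      obtain ⟨x, hx, y, hy, e⟩ := E.nonab
      by_contra hn
      push Not at hn
      have h3 : ∀ x ∈ R, s x = 0 := fun x hx => by
        obtain ⟨v, hv⟩ := M.ex_v x hx; rw [← hs hv, hn]
      have := h1 x hx y hy
      rw [h3 _ (mul_mem hx hy), h3 x hx, h3 y hy] at this
      simp [c, e] at this) v
  rw [hs h] at key
  obtain ⟨k, hk⟩ := sixteen_dvd_sqNorm v.2
  rw [hk, Int.mul_ediv_cancel_left _ (by norm_num)] at key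
  rw [hk, show (32 ∣ 16 * k) ↔ ((2 : ℕ) : ℤ) ∣ k by omega, ← ZMod.intCast_zmod_eq_zero_iff_dvd, ← key]
  simp [s]

theorem comm_iff {v w x y} (h : Ov v x) (h' : Ov w y) : x * y = y * x ↔ 16 ∣ ip v w := by
  have E := M.es
  have hx := M.mem h
  have hy := M.mem h'
  have a1 := M.sq_iff h
  have a2 := M.sq_iff h'
  have a3 := M.sq_iff (M.mul h h')
  have b1 := sixteen_dvd_sqNorm v.2
  have b2 := sixteen_dvd_sqNorm w.2
  have b3 : 8 ∣ ip v w := eight_dvd_dot v.2 w.2
  rw [AddSubgroup.coe_add, sqNorm_add, show dotInt _ _ = ip v w from rfl] at a3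
  have hz1 := E.ne
  have hz2 := E.sq
  by_cases e : x * y = y * x
  · have : x * y * (x * y) = x * x * (y * y) := by
      rw [mul_assoc x y, ← mul_assoc y, ← e]; group
    rw [this] at a3
    rcases E.sq_mem x hx with a | a <;> rcases E.sq_mem y hy with b | b <;>
      simp [a, b, hz1, hz2] at a1 a2 a3 <;> simp only [e, true_iff] <;> omega
  · have : x * y * (x * y) = x * x * (y * y) * z := by
      rw [mul_assoc x y, ← mul_assoc y, E.anti hy hx (Ne.symm e), mul_assoc _ z, ← E.cen y hy]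
      group
    rw [this] at a3
    rcases E.sq_mem x hx with a | a <;> rcases E.sq_mem y hy with b | b <;>
      simp [a, b, hz1, hz2] at a1 a2 a3 <;> simp only [e, false_iff] <;> omega

end MT

end Cfsg.Lib.Leech
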