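import Cfsg.Agent.Lib.Leech.MonT

/-! Groups of Monster type: the conjugates of `z` in `Q`. -/

namespace Cfsg.Lib.Leech

open Subgroup MulAction Spor Cfsg.Lib.Known2 Cfsg.Lib.Core Cfsg.Lib.Amalg

namespace MT

variable {G : Type*} [Group G] {z : G} {R : Subgroup G} {π : centralizer ({z} : Set G) →* Co1}
  {Ov : leechLattice → G → Prop} (M : MT z R π Ov)
include M

theorem symm {R' : Subgroup G} {s : G} (E : ES R' s) (hc : Nat.card R' = 2 ^ 25) (hz : z ∈ R')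
    (hne : z ≠ s) : s ∈ R := by
  by_contra hs
  have h1 := es_card_cent E hz M.es.ne hne
  have h2 := M.card_img (H := centralizer {z} ⊓ R') inf_le_left
  have h3 : R ⊓ (centralizer {z} ⊓ R') ≤ zpowers z := by
    rintro x ⟨hx, -, hx'⟩
    rw [M.es.mem_zp]
    rcases E.double_perp hz hx' (fun y hy e => by
      have h4 := M.conj_mem (mem_centralizer_singleton_iff.2 e.symm) hx
      rcases E.conj_eq hy hx' with a | a
      · exact (mul_inv_eq_iff_eq_mul.1 a).symm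
      · exact absurd ((R.mul_mem_cancel_left hx).1 (a ▸ h4)) hs) with (a | a) | a | a
    · exact Or.inl a
    · exact absurd (a ▸ hx) hs
    · exact Or.inr a
    · exact absurd ((R.mul_mem_cancel_left M.es.mem).1 (a ▸ hx)) hs
  have h4 := card_dvd_of_le h3
  rw [card_zpowers_invol M.es.sq M.es.ne] at h4
  have h5 := Nat.mul_dvd_mul (card_subgroup_dvd_card (img π (centralizer {z} ⊓ R'))) h4
  rw [h2, card_Co0, mul_comm, h1, hc] at h5
  norm_num at h5

theorem img_cent {v s} (hv : Ov v s) (h1 : s ≠ 1) (h2 : s ≠ z) {k : Co0} :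
    k ∈ img π (centralizer {z} ⊓ centralizer {s}) ↔ ∃ w, k • v - v = 2 • w := by
  rw [mem_img]
  constructor
  · rintro ⟨h, hh, a⟩
    have := M.mt_conj a hv
    rw [mem_centralizer_singleton_iff.1 hh.2, mul_inv_cancel_right] at this
    exact M.congr this hv
  · rintro ⟨w, hw⟩
    obtain ⟨c, hc, e⟩ := M.exists_conj hv (M.of_congr hv hw) h1 h2
    exact ⟨c, ⟨hc.1, mem_centralizer_singleton_iff.2 (mul_inv_eq_iff_eq_mul.1 e)⟩, hc⟩

theorem conj_mem' {g h x : G} (hh : h ∈ centralizer ({g * z * g⁻¹} : Set G)) (hx : x ∈ cj g R) :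
    h * x * h⁻¹ ∈ cj g R := by
  rw [← cj_centralizer_singleton, mem_cj] at hh
  have := M.conj_mem hh (mem_cj.1 hx)
  rw [mem_cj]; convert this using 1; group

theorem img_le (g : G) : img π (centralizer {z} ⊓ cj g R) ≤
    img π (centralizer {z} ⊓ centralizer {g * z * g⁻¹}) := fun _ hk =>
  let ⟨h, hh, a⟩ := mem_img.1 hk
  mem_img.2 ⟨h, ⟨hh.1, (M.es.conj g).le_cent hh.2⟩, a⟩

theorem img_conj {g : G} {k x : Co0} (hk : k ∈ img π (centralizer {z} ⊓ centralizer {g * z * g⁻¹}))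
    (hx : x ∈ img π (centralizer {z} ⊓ cj g R)) : k * x * k⁻¹ ∈ img π (centralizer {z} ⊓ cj g R) :=
  let ⟨_, hh, a⟩ := mem_img.1 hk
  let ⟨_, hy, b⟩ := mem_img.1 hx
  mem_img.2 ⟨_, ⟨((a.mul b).mul a.inv).1, M.conj_mem' hh.2 hy.2⟩,
    (a.mul b).mul a.inv⟩

variable {g : G} (hs : g * z * g⁻¹ ∈ R) (hne : g * z * g⁻¹ ≠ z)
include hs

theorem img_pow_four {x : Co0} (hx : x ∈ img π (centralizer {z} ⊓ cj g R)) : x ^ 4 = 1 := by
  obtain ⟨y, hy, b⟩ := mem_img.1 hx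
  have h1 : y * y ∈ R := by
    rcases (M.es.conj g).sq_mem y hy.2 with e | e <;> rw [e]
    exacts [one_mem _, hs]
  rw [show x ^ 4 = x * x * (x * x) by simp only [pow_succ, pow_zero, one_mul, mul_assoc]]
  rcases (M.mt_mem (b.mul b)).1 h1 with e | e <;> rw [e]
  exacts [one_mul _, negOne_mul_self]

include hne

theorem z_mem : z ∈ cj g R := by
  have := M.symm (M.es.conj g⁻¹) (by rw [card_cj, M.card]) (by rwa [mem_cj, inv_inv])
    fun e => hne ((congrArg (g * · * g⁻¹) e).trans (by group))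
  rwa [inv_inv, ← mem_cj] at this

theorem card_B : Nat.card ↥(centralizer {z} ⊓ cj g R) = 2 ^ 24 := by
  have := es_card_cent (M.es.conj g) (M.z_mem hs hne) M.es.ne hne.symm
  rw [card_cj, M.card] at this
  omega

omit hs in
theorem comm_of_mem {x y : G} (hx : x ∈ R ⊓ cj g R) (hy : y ∈ R ⊓ cj g R) : x * y = y * x := by
  by_contra e
  exact hne (mul_left_cancel (((M.es.conj g).anti hx.2 hy.2 e).symm.trans (M.es.anti hx.1 hy.1 e)))

omit hs in
theorem sq_of_mem {x : G} (hx : x ∈ R ⊓ cj g R) : x * x = 1 := by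
  by_contra e
  exact hne ((((M.es.conj g).sq_mem x hx.2).resolve_left e).symm.trans
    ((M.es.sq_mem x hx.1).resolve_left e))

theorem img_ne : ∃ x ∈ img π (centralizer {z} ⊓ cj g R), ¬ (x = 1 ∨ x = negOne) := by
  by_contra hn
  push Not at hn
  have h1 : ∀ x ∈ centralizer {z} ⊓ cj g R, x ∈ R ⊓ cj g R := fun x hx => by
    obtain ⟨k, hk⟩ := exists_mt (π := π) hx.1
    exact ⟨(M.mt_mem hk).2 (hn k (mem_img.2 ⟨x, hx, hk⟩)), hx.2⟩
  have h2 : ((centralizer {z} ⊓ cj g R : Subgroup G) : Set G) ⊆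
      {1, g * z * g⁻¹, z, z * (g * z * g⁻¹)} := fun x hx => by
    have := (M.es.conj g).double_perp (M.z_mem hs hne) hx.2 fun y hy e =>
      M.comm_of_mem hne (h1 x hx) (h1 y ⟨mem_centralizer_singleton_iff.2 e.symm, hy⟩)
    simpa only [Set.mem_insert_iff, Set.mem_singleton_iff, or_assoc] using this
  have h3 := (Set.ncard_le_ncard h2).trans (Set.ncard_insert_le _ _)
  have h4 := Set.ncard_insert_le (g * z * g⁻¹) {z, z * (g * z * g⁻¹)}
  have h5 := Set.ncard_insert_le z {z * (g * z * g⁻¹)}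
  have h6 : ((centralizer {z} ⊓ cj g R : Subgroup G) : Set G).ncard = 2 ^ 24 := M.card_B hs hne
  rw [Set.ncard_singleton] at h5
  omega

theorem not_U : ¬ Ov leechU (g * z * g⁻¹) := fun hv => by
  obtain ⟨x, hx, h⟩ := M.img_ne hs hne
  have h1 := (M.es.conj g).ne
  refine h (central_of_pow_four (fun y hy => ?_) (fun k hk y hy => M.img_conj ?_ hy)
    (fun y hy => M.img_pow_four hs hy) (negOne_mem_img _) hx)
  · obtain ⟨w, hw⟩ := (M.img_cent hv h1 hne).1 (M.img_le g hy)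
    exact pm_of_congr (by rw [sqNorm_leechU]; norm_num) hw
  · exact (M.img_cent hv h1 hne).2 ⟨0, by rw [mem_stabilizer_iff.1 hk]; simp⟩

theorem type_four : ∃ v, Ov v (g * z * g⁻¹) ∧ sqNorm (v : GolayPt → ℤ) = 64 := by
  obtain ⟨v, hv, h | h | h⟩ := M.exists_short hs (M.es.conj g).ne hne
  · obtain ⟨k, rfl⟩ := trans32 sqNorm_leechU h
    exact absurd hv ((M.twist k).not_U hs hne)
  · have := (M.sq_iff hv).1 (M.es.conj g).sq
    omega
  · exact ⟨v, hv, h⟩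

theorem exists_e8 : ∃ k : Co0, Ov (k • e8 none) (g * z * g⁻¹) := by
  obtain ⟨v, hv, h⟩ := M.type_four hs hne
  obtain ⟨k, rfl⟩ := trans64 (sqNorm_e8 none) h
  exact ⟨k, hv⟩

omit hs in
theorem img_X (hv : Ov (e8 none) (g * z * g⁻¹)) :
    img π (centralizer {z} ⊓ centralizer {g * z * g⁻¹}) = Mono :=
  Subgroup.ext fun _ => M.img_cent hv (M.es.conj g).ne hne

theorem img_B (hv : Ov (e8 none) (g * z * g⁻¹)) : img π (centralizer {z} ⊓ cj g R) = Sgn :=
  eq_Sgn (M.img_X hne hv ▸ M.img_le g) (fun _ hk _ hx => M.img_conj (M.img_X hne hv ▸ hk) hx)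
    (fun _ hx => M.img_pow_four hs hx) (negOne_mem_img _) (M.img_ne hs hne)

theorem card_inf : Nat.card ↥(R ⊓ cj g R) = 2 ^ 13 := by
  obtain ⟨k, hk⟩ := M.exists_e8 hs hne
  have := (M.twist k).card_img (H := centralizer {z} ⊓ cj g R) inf_le_left
  rw [(M.twist k).img_B hs hne hk, card_Sgn, M.card_B hs hne, ← inf_assoc,
    inf_eq_left.2 M.es.le_cent] at this
  omega

theorem conj_of_64 {v x} (hv : Ov v x) (h : sqNorm (v : GolayPt → ℤ) = 64) :
    ∃ c ∈ centralizer ({z} : Set G), c * (g * z * g⁻¹) * c⁻¹ = x := by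
  obtain ⟨w, hw, h'⟩ := M.type_four hs hne
  obtain ⟨k, rfl⟩ := trans64 h' h
  obtain ⟨c, hc, e⟩ := M.exists_conj hw hv (M.es.conj g).ne hne
  exact ⟨c, hc.1, e⟩

theorem isConj_of_64 {v x} (hv : Ov v x) (h : sqNorm (v : GolayPt → ℤ) = 64) : IsConj z x := by
  obtain ⟨c, -, e⟩ := M.conj_of_64 hs hne hv h
  exact isConj_iff.2 ⟨c * g, by rw [← e]; group⟩

theorem type_two {t : G} (ht : t ∈ R) (h2 : orderOf t = 2) (hc : ¬ IsConj z t) :
    ∃ v, Ov v t ∧ sqNorm (v : GolayPt → ℤ) = 32 := by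
  obtain ⟨v, hv, h | h | h⟩ := M.exists_short ht (by rintro rfl; simp at h2)
    (by rintro rfl; exact hc (IsConj.refl _))
  · exact ⟨v, hv, h⟩
  · have := (M.sq_iff hv).1 (by rw [← pow_two, ← h2, pow_orderOf_eq_one])
    omega
  · exact absurd (M.isConj_of_64 hs hne hv h) hc

end MT

/-- `X = E : M24` with `E` elementary abelian of order `2^11`. -/
def SplitM24 {H : Type*} [Group H] (X E : Subgroup H) : Prop :=
  E ≤ X ∧ (∀ x ∈ X, ∀ y ∈ E, x * y * x⁻¹ ∈ E) ∧ IsElementaryAbelian 2 E ∧ Nat.card E = 2 ^ 11 ∧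
    ∃ K : Subgroup H, K ≤ X ∧ E ⊓ K = ⊥ ∧ E ⊔ K = X ∧ Nonempty (K ≃* M24)

theorem SplitM24.map {H H' : Type*} [Group H] [Group H'] {X E : Subgroup H} (h : SplitM24 X E)
    (f : H →* H') (hf : Function.Injective f) : SplitM24 (X.map f) (E.map f) := by
  obtain ⟨h1, h2, ⟨h3, h4⟩, h5, K, k1, k2, k3, ⟨k4⟩⟩ := h
  refine ⟨map_mono h1, ?_, ⟨inferInstance, ?_⟩, by rw [card_map_of_injective hf, h5],
    K.map f, map_mono k1, by rw [← map_inf _ _ _ hf, k2, Subgroup.map_bot], by rw [← Subgroup.map_sup, k3],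
    ⟨(K.equivMapOfInjective f hf).symm.trans k4⟩⟩
  · rintro _ ⟨x, hx, rfl⟩ _ ⟨y, hy, rfl⟩
    exact ⟨_, h2 x hx y hy, by simp⟩
  · rintro _ ⟨x, hx, rfl⟩
    rw [← map_pow, h4 x hx, map_one]

theorem eq_one_of_mk1_prm {σ : M24} {x : Co0} (hx : x ∈ Sgn) (h : mk1 (prm σ) = mk1 x) : σ = 1 := by
  obtain ⟨c, hc, e⟩ : prm σ ∈ Sgn := by
    rcases mk1_eq_iff.1 h with e | e <;> rw [e]
    exacts [hx, mul_mem negOne_mem_Sgn hx]
  exact (sgn_prm_inj (c := ∅) (hc := cw_empty) (hd := hc)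
    (by rw [sgn_empty, one_mul, prm_one, mul_one, e])).2

theorem splitM24_Mono : SplitM24 (Mono.map mk1) (Sgn.map mk1) := by
  have hi : Function.Injective (mk1.comp prmHom) := (injective_iff_map_eq_one _).2 fun σ h =>
    eq_one_of_mk1_prm (one_mem _) (h.trans (map_one _).symm)
  refine ⟨map_mono Sgn_le_Mono, ?_, ⟨⟨⟨?_⟩⟩, ?_⟩, ?_, (mk1.comp prmHom).range, ?_, ?_, ?_,
    ⟨(MonoidHom.ofInjective hi).symm⟩⟩
  · rintro _ ⟨x, hx, rfl⟩ _ ⟨y, hy, rfl⟩
    exact ⟨_, Sgn_conj hx hy, by simp⟩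
  · rintro ⟨_, x, hx, rfl⟩ ⟨_, y, hy, rfl⟩
    exact Subtype.ext (by
      show mk1 x * mk1 y = mk1 y * mk1 x
      rw [← map_mul, Sgn_comm hx hy, map_mul])
  · rintro _ ⟨x, hx, rfl⟩
    rw [← map_pow, pow_two, Sgn_sq hx, map_one]
  · have := card_map_mk'_mul (center Co0) Sgn
    rw [inf_eq_left.2 (fun x hx => by
      rcases mem_center_iff.1 hx with rfl | rfl
      exacts [one_mem _, negOne_mem_Sgn]), card_center, card_Sgn] at this
    show Nat.card (Sgn.map (QuotientGroup.mk' _)) = _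
    omega
  · rintro _ ⟨σ, rfl⟩; exact ⟨_, prm_mem_Mono σ, rfl⟩
  · rw [eq_bot_iff]
    rintro _ ⟨⟨x, hx, e⟩, σ, rfl⟩
    rw [eq_one_of_mk1_prm hx e.symm, map_one]; exact one_mem _
  · refine le_antisymm (sup_le (map_mono Sgn_le_Mono) ?_) ?_
    · rintro _ ⟨σ, rfl⟩; exact ⟨_, prm_mem_Mono σ, rfl⟩
    · rintro _ ⟨x, hx, rfl⟩
      obtain ⟨c, hc, σ, rfl⟩ := exists_sgn_prm hx
      rw [map_mul]
      exact mul_mem (mem_sup_left ⟨_, sgn_mem_Sgn c hc, rfl⟩) (mem_sup_right ⟨σ, rfl⟩)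

end Cfsg.Lib.Leech
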