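import Cfsg.Agent.Lib.Leech.Simple
import Cfsg.Agent.Lib.Comp.PermGrp
import Cfsg.Agent.Lib.Comp.Tr

/-! Permutation representations of subgroups of `Co0` on labelled short vectors. -/

namespace Cfsg.Lib.Leech

open MulAction Spor Cfsg.Lib.Comp
open scoped Pointwise

theorem fx_of_mem_cl' {N : ℕ} {g : ℕ → Equiv.Perm ℕ} {L : List ℕ} (h : ∀ x ∈ L, Fx N (g x))
    {a : Equiv.Perm ℕ} (ha : a ∈ cl g L) : Fx N a := by
  unfold cl at ha
  induction ha using Subgroup.closure_induction with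
  | mem y hy => obtain ⟨x, hx, rfl⟩ := hy; exact h x hx
  | one => exact Fx.one N
  | mul a b _ _ h1 h2 => exact h1.mul h2
  | inv a _ h1 => exact h1.inv

/-- An action on injectively labelled points gives a homomorphism onto the group of label permutations. -/
theorem hom_of_labels {Γ X : Type*} [Group Γ] [MulAction Γ X] {g : ℕ → Γ} {σ : ℕ → Equiv.Perm ℕ}
    {L : List ℕ} {n : ℕ} (v : ℕ → X) (hinj : ∀ p < n, ∀ q < n, v p = v q → p = q)
    (hσ : ∀ x ∈ L, Fx n (σ x)) (h : ∀ x ∈ L, ∀ p < n, g x • v p = v (σ x p)) :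
    ∃ f : cl g L →* cl σ L, Function.Surjective f ∧
      (∀ x (hx : x ∈ L), f ⟨g x, mem_cl hx⟩ = ⟨σ x, mem_cl hx⟩) ∧
      ∀ s : cl g L, ∀ p < n, (s : Γ) • v p = v ((f s : Equiv.Perm ℕ) p) := by
  have key : ∀ s ∈ cl g L, ∃ t ∈ cl σ L, ∀ p < n, s • v p = v (t p) := by
    intro s hs
    unfold cl at hs
    induction hs using Subgroup.closure_induction with
    | mem y hy => obtain ⟨x, hx, rfl⟩ := hy; exact ⟨σ x, mem_cl hx, h x hx⟩
    | one => exact ⟨1, Subgroup.one_mem _, fun i _ => one_smul _ _⟩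
    | mul s s' _ _ h1 h2 =>
      obtain ⟨t, ht, e⟩ := h1
      obtain ⟨t', ht', e'⟩ := h2
      refine ⟨t * t', Subgroup.mul_mem _ ht ht', fun i hi => ?_⟩
      rw [mul_smul, e' i hi, e _ ((fx_of_mem_cl' hσ ht').lt hi), Equiv.Perm.mul_apply]
    | inv s _ h1 =>
      obtain ⟨t, ht, e⟩ := h1
      refine ⟨t⁻¹, Subgroup.inv_mem _ ht, fun i hi => ?_⟩
      rw [inv_smul_eq_iff, e _ ((fx_of_mem_cl' hσ ht).inv.lt hi), app_inv]
  have uniq : ∀ (s : Γ) (t t' : cl σ L), (∀ p < n, s • v p = v (t.1 p)) →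
      (∀ p < n, s • v p = v (t'.1 p)) → t = t' := by
    intro s t t' e e'
    refine Subtype.ext (Equiv.ext fun i => ?_)
    by_cases hi : i < n
    · exact hinj _ ((fx_of_mem_cl' hσ t.2).lt hi) _ ((fx_of_mem_cl' hσ t'.2).lt hi)
        ((e i hi).symm.trans (e' i hi))
    · rw [fx_of_mem_cl' hσ t.2 i (by omega), fx_of_mem_cl' hσ t'.2 i (by omega)]
  choose F hF hF' using key
  let f : cl g L →* cl σ L := MonoidHom.mk' (fun s => ⟨F s s.2, hF s s.2⟩) fun s t => by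
    refine uniq (s * t : cl g L) _ _ (hF' _ _) fun i hi => ?_
    change (s.1 * t.1) • v i = v ((F s s.2 * F t t.2) i)
    rw [mul_smul, hF' t t.2 i hi, hF' s s.2 _ ((fx_of_mem_cl' hσ (hF t t.2)).lt hi),
      Equiv.Perm.mul_apply]
  have hx : ∀ x (hx : x ∈ L), f ⟨g x, mem_cl hx⟩ = ⟨σ x, mem_cl hx⟩ := fun x hx =>
    uniq (g x) _ _ (hF' _ (mem_cl hx)) (h x hx)
  refine ⟨f, ?_, hx, fun s => hF' s s.2⟩
  rintro ⟨t, ht⟩
  have : cl σ L ≤ f.range.map (cl σ L).subtype := cl_le.2 fun x hx' =>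
    ⟨_, ⟨⟨g x, mem_cl hx'⟩, hx x hx'⟩, rfl⟩
  obtain ⟨u, ⟨s, hs⟩, e⟩ := this ht
  exact ⟨s, hs.trans (Subtype.ext e)⟩

/-- A surjection from a subgroup of `K` onto a group at least as big as `K`. -/
theorem eq_of_surj_card {Γ Δ : Type*} [Group Γ] [Group Δ] {H K : Subgroup Γ} [Finite K] (hHK : H ≤ K)
    (f : H →* Δ) (hf : Function.Surjective f) (hc : Nat.card K ≤ Nat.card Δ) :
    H = K ∧ Function.Bijective f := by
  have : Finite H := Finite.of_injective _ (Subgroup.inclusion_injective hHK)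
  have h1 := Nat.card_le_card_of_surjective f hf
  have h2 := Subgroup.card_le_of_le hHK
  exact ⟨Subgroup.eq_of_le_of_card_ge hHK (by omega),
    (Nat.bijective_iff_surjective_and_card f).2 ⟨hf, by omega⟩⟩

theorem eq_zero_of_valZ {d : GolayPt → ℤ} (hd : ∀ i, -32 ≤ d i ∧ d i ≤ 32) (h : valZ d = 0) : d = 0 := by
  have h1 := (app_of_valZ (n := 4 * Z8) (x := d) (a := 32) (fun i => by have := hd i; omega)
    (by rw [h]; push_cast; ring)).2
  have h2 := (app_of_valZ (n := 4 * Z8) (x := 0) (a := 32) (fun i => by simp)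
    (by simp only [valZ, Pi.zero_apply, zero_mul, Finset.sum_const_zero]; push_cast; ring)).2
  funext i
  have := h1 i
  have := h2 i
  simp only [Pi.zero_apply] at this ⊢
  omega

theorem rep_add_eq_iff {a b c : ℕ} {u v w : leechLattice} (ha : Rep a u) (hb : Rep b v) (hc : Rep c w)
    (hu : sqNorm (u : GolayPt → ℤ) ≤ 64) (hv : sqNorm (v : GolayPt → ℤ) ≤ 64)
    (hw : sqNorm (w : GolayPt → ℤ) ≤ 64) : u = w - v ↔ a + b = c + Z8 := by
  have h1 := ha.valZ
  have h2 := hb.valZ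
  have h3 := hc.valZ
  have h4 : valZ ((u : GolayPt → ℤ) + v + (-1 : ℤ) • (w : GolayPt → ℤ)) = valZ u + valZ v - valZ w := by
    rw [valZ_add, valZ_add]
    simp only [valZ, Pi.smul_apply, smul_eq_mul, neg_mul, one_mul, Finset.sum_neg_distrib]; ring
  constructor
  · rintro rfl
    rw [show ((w - v : leechLattice) : GolayPt → ℤ) + v + (-1 : ℤ) • (w : GolayPt → ℤ) = 0 by simp,
      show valZ 0 = 0 by simp [valZ]] at h4
    omega
  · intro e
    have := eq_zero_of_valZ (d := (u : GolayPt → ℤ) + v + (-1 : ℤ) • (w : GolayPt → ℤ)) (fun i => by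
      have := abs_le_of_sqNorm (a := 8) (by norm_num) hu i
      have := abs_le_of_sqNorm (a := 8) (by norm_num) hv i
      have := abs_le_of_sqNorm (a := 8) (by norm_num) hw i
      simp only [Pi.add_apply, Pi.smul_apply, smul_eq_mul]; omega) (by omega)
    apply Subtype.ext
    funext i
    have := congrFun this i
    simp only [Pi.add_apply, Pi.smul_apply, smul_eq_mul, Pi.zero_apply] at this
    simp only [AddSubgroup.coe_sub, Pi.sub_apply]; omega

/-- The table `T` consists of codes of short vectors. -/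
def Valid (T : ℕ → ℕ) (n : ℕ) : Prop :=
  ∀ p < n, ∃ w : leechLattice, Rep (T p) w ∧ sqNorm (w : GolayPt → ℤ) ≤ 64

/-- Action on labelled vectors. -/
theorem hom_of_lab1 {g : ℕ → Co0} {W : ℕ → ℕ} {σ : ℕ → Equiv.Perm ℕ} {L : List ℕ} {n : ℕ} {T : ℕ → ℕ}
    (hW : ∀ x ∈ L, Impl (g x) (W x)) (hσ : ∀ x ∈ L, Fx n (σ x)) (hT : Valid T n)
    (hinj : ∀ p < n, ∀ q < n, T p = T q → p = q)
    (h : ∀ x ∈ L, ∀ p < n, apW (W x) (T ((σ x)⁻¹ p)) = T p) :
    ∃ f : cl g L →* cl σ L, Function.Surjective f ∧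
      (∀ x (hx : x ∈ L), f ⟨g x, mem_cl hx⟩ = ⟨σ x, mem_cl hx⟩) ∧
      ∀ s : cl g L, ∀ p < n, ∀ v w, Rep (T p) v → Rep (T ((f s : Equiv.Perm ℕ) p)) w →
        (s : Co0) • v = w := by
  choose! u hu hu' using hT
  obtain ⟨f, h1, h2, h3⟩ := hom_of_labels (g := g) (σ := σ) (L := L) (n := n) u
    (fun p hp q hq e => hinj p hp q hq ((hu p hp).eq_left (e ▸ hu q hq))) hσ fun x hx p hp => by
      have hq := (hσ x hx).lt hp
      have := h x hx _ hq
      rw [inv_app] at this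
      exact ((hW x hx).smul_eq (hu p hp) (hu' p hp) (hu _ hq)).2 this
  refine ⟨f, h1, h2, fun s p hp v w hv hw => ?_⟩
  rw [hv.eq_right (hu p hp), hw.eq_right (hu _ ((fx_of_mem_cl' hσ (f s).2).lt hp))]
  exact h3 s p hp

/-- Action on labelled pairs `{w, c - w}`. -/
theorem hom_of_lab2 {g : ℕ → Co0} {W : ℕ → ℕ} {σ : ℕ → Equiv.Perm ℕ} {L : List ℕ} {n : ℕ} {T : ℕ → ℕ}
    {c : leechLattice} {cc : ℕ} (hc : Rep cc c) (hc' : sqNorm (c : GolayPt → ℤ) ≤ 64)
    (hW : ∀ x ∈ L, Impl (g x) (W x)) (hg : ∀ x ∈ L, g x • c = c) (hσ : ∀ x ∈ L, Fx n (σ x))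
    (hT : Valid T n) (hlt : ∀ p < n, 2 * T p < cc + Z8) (hinj : ∀ p < n, ∀ q < n, T p = T q → p = q)
    (h : ∀ x ∈ L, ∀ p < n, apW (W x) (T ((σ x)⁻¹ p)) = T p ∨
      apW (W x) (T ((σ x)⁻¹ p)) + T p = cc + Z8) :
    ∃ f : cl g L →* cl σ L, Function.Surjective f ∧
      (∀ x (hx : x ∈ L), f ⟨g x, mem_cl hx⟩ = ⟨σ x, mem_cl hx⟩) ∧
      ∀ s : cl g L, ∀ p < n, ∀ v w, Rep (T p) v → Rep (T ((f s : Equiv.Perm ℕ) p)) w →
        (s : Co0) • v = w ∨ (s : Co0) • v = c - w := by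
  choose! u hu hu' using hT
  obtain ⟨f, h1, h2, h3⟩ := hom_of_labels (g := g) (σ := σ) (L := L) (n := n)
    (fun p => ({u p, c - u p} : Set leechLattice)) (fun p hp q hq e => by
      have : u p ∈ ({u q, c - u q} : Set leechLattice) := e ▸ Set.mem_insert _ _
      rcases this with e1 | e1
      · exact hinj p hp q hq ((hu p hp).eq_left (e1 ▸ hu q hq))
      · have := (rep_add_eq_iff (hu p hp) (hu q hq) hc (hu' p hp) (hu' q hq) hc').1 e1
        have := hlt p hp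
        have := hlt q hq
        omega) hσ fun x hx p hp => by
      have hq := (hσ x hx).lt hp
      have := h x hx _ hq
      rw [inv_app] at this
      rw [Set.smul_set_insert, Set.smul_set_singleton, co0_smul_sub, hg x hx]
      rcases this with e | e
      · rw [((hW x hx).smul_eq (hu p hp) (hu' p hp) (hu _ hq)).2 e]
      · rw [(rep_add_eq_iff (hW x hx _ _ (hu p hp) (hu' p hp)) (hu _ hq) hc
          (by rw [sqNorm_smul]; exact hu' p hp) (hu' _ hq) hc').2 e, sub_sub_cancel, Set.pair_comm]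
  refine ⟨f, h1, h2, fun s p hp v w hv hw => ?_⟩
  rw [hv.eq_right (hu p hp), hw.eq_right (hu _ ((fx_of_mem_cl' hσ (f s).2).lt hp))]
  have := h3 s p hp
  rw [Set.smul_set_insert] at this
  exact (this ▸ Set.mem_insert _ _ : (s : Co0) • u p ∈ ({u ((f s : Equiv.Perm ℕ) p),
    c - u ((f s : Equiv.Perm ℕ) p)} : Set leechLattice))

/-! ### Kernel tests -/

/-- `∀ i ∈ [a, a+m), f i`. -/
noncomputable def allR (a m : ℕ) (f : ℕ → Bool) : Bool := Comp.allN m fun i => force (Nat.add a i) f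

theorem allR_iff {a m : ℕ} {f : ℕ → Bool} : allR a m f = true ↔ ∀ i, a ≤ i → i < a + m → f i = true := by
  rw [allR, Comp.allN_iff]
  refine ⟨fun h i h1 h2 => ?_, fun h i hi => h _ (Nat.le_add_right _ _) (by show a + i < a + m; omega)⟩
  have := h (i - a) (by omega)
  rwa [force_eq, Nat.add_eq, Nat.add_sub_cancel' h1] at this

theorem allR_zero {m : ℕ} {f : ℕ → Bool} (h : allR 0 m f = true) : ∀ i < m, f i = true :=
  fun i hi => allR_iff.1 h i (Nat.zero_le _) (by omega)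

theorem allR_add {a m k : ℕ} {f : ℕ → Bool} (h : allR a m f = true) (h' : allR (a + m) k f = true) :
    allR a (m + k) f = true := by
  rw [allR_iff] at *
  intro i h1 h2
  by_cases hi : i < a + m
  · exact h i h1 hi
  · exact h' i (by omega) (by omega)

/-- `n` is the code of a lattice vector of norm `k`. -/
noncomputable def vecB (k n : ℕ) : Bool :=
  cnd (Nat.ble n 0xffffffffffffffffffffffffffffffffffffffffffffffff) (cnd (inL n) (dotB n n k 0) false) false

theorem exists_of_vecB {k n : ℕ} (h : vecB k n = true) :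
    ∃ v : leechLattice, Rep n v ∧ sqNorm (v : GolayPt → ℤ) = k := by
  simp only [vecB, cnd_tt, ble_tt, dotB_iff, dotInt_self] at h
  exact ⟨⟨_, mem_of_inL h.2.1⟩, ⟨by omega, rfl⟩, by simpa using h.2.2⟩

theorem valid_of_vecB {T : ℕ → ℕ} {n k : ℕ} (hk : k ≤ 64)
    (h : allR 0 n (fun p => force (T p) (vecB k)) = true) : Valid T n := fun p hp => by
  obtain ⟨v, h1, h2⟩ := exists_of_vecB (allR_zero h p hp)
  exact ⟨v, h1, by rw [h2]; exact_mod_cast hk⟩

/-- `s` sorts the table `T`. -/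
noncomputable def sortB (T s : ℕ → ℕ) (n i : ℕ) : Bool :=
  cnd (Nat.ble (Nat.succ (s i)) n) (cnd (Nat.beq (Nat.succ i) n) true
    (Nat.ble (Nat.succ (T (s i))) (T (s (Nat.succ i))))) false

theorem inj_of_sortB {T s : ℕ → ℕ} {n : ℕ} (h : allR 0 n (sortB T s n) = true) :
    ∀ p < n, ∀ q < n, T p = T q → p = q := by
  have h1 : ∀ i < n, s i < n ∧ (i + 1 < n → T (s i) < T (s (i + 1))) := fun i hi => by
    have := allR_zero h i hi
    rw [sortB, cnd_tt, ble_tt, cnd_eq] at this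
    refine ⟨this.1, fun h2 => ?_⟩
    have h3 := this.2
    rw [if_neg (by rw [beq_tt]; omega), ble_tt] at h3
    exact h3
  have h2 : ∀ j < n, ∀ i < j, T (s i) < T (s j) := by
    intro j hj
    induction j with
    | zero => intro i hi; omega
    | succ j ih =>
      intro i hi
      have := (h1 j (by omega)).2 hj
      rcases Nat.lt_succ_iff_lt_or_eq.1 hi with h3 | rfl
      · exact (ih (by omega) i h3).trans this
      · exact this
  have h3 : ∀ i < n, ∀ j < n, T (s i) = T (s j) → i = j := fun i hi j hj e => by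
    rcases lt_trichotomy i j with h4 | h4 | h4
    · have := h2 j hj i h4; omega
    · exact h4
    · have := h2 i hi j h4; omega
  have h4 : ∀ p < n, ∃ i < n, s i = p := fun p hp => by
    obtain ⟨i, hi, e⟩ := Finset.surj_on_of_inj_on_of_card_le (s := Finset.range n) (t := Finset.range n)
      (fun i _ => s i) (fun i hi => Finset.mem_range.2 (h1 i (Finset.mem_range.1 hi)).1)
      (fun i j hi hj e => h3 i (Finset.mem_range.1 hi) j (Finset.mem_range.1 hj) (congrArg T e))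
      le_rfl p (Finset.mem_range.2 hp)
    exact ⟨i, Finset.mem_range.1 hi, e.symm⟩
  intro p hp q hq e
  obtain ⟨i, hi, rfl⟩ := h4 p hp
  obtain ⟨j, hj, rfl⟩ := h4 q hq
  rw [h3 i hi j hj e]

/-- `W` maps the vector with label `s p` to the vector with label `p`, up to the pairing. -/
noncomputable def labB (W : ℕ) (s T : ℕ → ℕ) (C p : ℕ) : Bool :=
  force (apW W (T (s p))) fun y => force (T p) fun t => cnd (Nat.beq y t) true (Nat.beq (Nat.add y t) C)

theorem labB_iff {W : ℕ} {s T : ℕ → ℕ} {C p : ℕ} :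
    labB W s T C p = true ↔ apW W (T (s p)) = T p ∨ apW W (T (s p)) + T p = C := by
  rw [labB, force_eq, force_eq, cnd_eq]
  split_ifs with h
  · simp [beq_tt.1 h]
  · rw [beq_tt] at h ⊢; simp [h]

/-- All tests for a permutation representation on pairs `{w, c - w}`. -/
noncomputable def permB (N k : ℕ) (nets : List Net) (L Ws : List ℕ) (T s : ℕ → ℕ) (cc n : ℕ) : Bool :=
  cnd (fxB N k n nets L) (cnd (allR 0 n (fun p => force (T p) (vecB 32)))
    (cnd (allR 0 n fun p => Nat.ble (Nat.succ (Nat.mul 2 (T p))) (Nat.add cc Z8))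
    (cnd (allR 0 n (sortB T s n))
      (Comp.allL L fun x => allR 0 n (labB (nth 0 Ws x) (ptInv (nth Net.nil nets x)) T (Nat.add cc Z8)))
      false) false) false) false

theorem Impl.unique {g h : Co0} {W : ℕ} (h1 : Impl g W) (h2 : Impl h W) : g = h :=
  co0_ext_e8 fun i => by
    obtain ⟨n, hn⟩ := exists_rep (sqNorm_e8 i).le
    exact (h1 n _ hn (sqNorm_e8 i).le).eq_right (h2 n _ hn (sqNorm_e8 i).le)

theorem implIn_nth {K : Subgroup Co0} {L Ws Ws' : List ℕ} (h : ImplIn K Ws')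
    (hL : ∀ x ∈ L, nth 0 Ws x ∈ Ws') : ∀ x ∈ L, elt (nth 0 Ws x) ∈ K ∧ Impl (elt (nth 0 Ws x)) (nth 0 Ws x) := by
  intro x hx
  obtain ⟨g, hg, e⟩ := h _ (hL x hx)
  have h1 : Impl (elt (nth 0 Ws x)) (nth 0 Ws x) := by
    rw [elt, dif_pos ⟨g, e⟩]; exact (⟨g, e⟩ : ∃ g, Impl g (nth 0 Ws x)).choose_spec
  exact ⟨h1.unique e ▸ hg, h1⟩

theorem equiv_of_permB {N k n : ℕ} {nets : List Net} (hN : NetsOK N nets) (hk : N ≤ 2 ^ k) (hn : n ≤ N)
    {L Ws Ws' : List ℕ} {T s : ℕ → ℕ} {c : leechLattice} {cc : ℕ} (hc : Rep cc c)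
    (hc' : sqNorm (c : GolayPt → ℤ) ≤ 64) {K : Subgroup Co0} (hK : K ≤ stabilizer Co0 c) (hW : ImplIn K Ws')
    (hL : ∀ x ∈ L, nth 0 Ws x ∈ Ws') (h : permB N k nets L Ws T s cc n = true)
    (hcard : Nat.card K ≤ Nat.card (cl (gp nets) L)) :
    cl (fun x => elt (nth 0 Ws x)) L = K ∧ ∃ e : K ≃* cl (gp nets) L,
      (∀ x (hx : x ∈ L), e ⟨_, (implIn_nth hW hL x hx).1⟩ = ⟨gp nets x, mem_cl hx⟩) ∧
      ∀ a : K, ∀ p < n, ∀ v w, Rep (T p) v → Rep (T ((e a : Equiv.Perm ℕ) p)) w →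
        (a : Co0) • v = w ∨ (a : Co0) • v = c - w := by
  rw [permB, cnd_tt, cnd_tt, cnd_tt, cnd_tt, Comp.allL_iff] at h
  obtain ⟨h1, h2, h3, h4, h5⟩ := h
  have hW' := implIn_nth hW hL
  obtain ⟨f, f1, f2, f3⟩ := hom_of_lab2 (g := fun x => elt (nth 0 Ws x)) (σ := gp nets) (L := L) (n := n)
    (T := T) hc hc' (fun x hx => (hW' x hx).2) (fun x hx => hK (hW' x hx).1)
    (fun x hx => fx_of_fxB hN hk hn h1 (mem_cl hx)) (valid_of_vecB (by norm_num) h2)
    (fun p hp => ble_tt.1 (allR_zero h3 p hp)) (inj_of_sortB h4) fun x hx p hp => by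
      have := labB_iff.1 (allR_zero (h5 x hx) p hp)
      rwa [ptInv_gp hN] at this
  obtain ⟨e1, e2⟩ := eq_of_surj_card (K := K) (cl_le.2 fun x hx => (hW' x hx).1) f f1 hcard
  subst e1
  exact ⟨rfl, MulEquiv.ofBijective f e2, f2, f3⟩

end Cfsg.Lib.Leech
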