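import Cfsg.Agent.Lib.Leech.Simple
import Cfsg.Agent.Lib.Core.Basic

/-! The group of sign changes, irreducibility of the Golay code modulo the all-ones word, and
normal 2-subgroups of the stabilisers of classes modulo `2Λ`. -/

namespace Cfsg.Lib.Leech

open Finset MulAction Spor
open scoped Pointwise

theorem cw_irred {W : Finset GolayPt → Prop} (hW : ∀ c, W c → Cw c)
    (hd : ∀ c d, W c → W d → W (symmDiff c d)) (hu : W univ)
    (hs : ∀ σ ∈ M24, ∀ c, W c → W (σ • c)) {c : Finset GolayPt} (hc : W c) (h0 : c ≠ ∅)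
    (h1 : c ≠ univ) (d : Finset GolayPt) (h : Cw d) : W d := by
  have t8 : ∀ {c d}, W c → c.card = 8 → d ∈ octads → W d := fun hc h8 hd => by
    obtain ⟨σ, hσ, rfl⟩ := Golay.exists_M24_octad ⟨hW _ hc, h8⟩ hd; exact hs σ hσ _ hc
  have t12 : ∀ {c d}, W c → c.card = 12 → d ∈ dodecads → W d := fun hc h8 hd => by
    obtain ⟨σ, hσ, rfl⟩ := Golay.exists_M24_dodecad ⟨hW _ hc, h8⟩ hd; exact hs σ hσ _ hc
  have hco : ∀ c, W c → W cᶜ := fun c hc => by
    have := hd _ _ hc hu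
    rwa [← top_eq_univ, symmDiff_top] at this
  have hcard : ∀ c : Finset GolayPt, cᶜ.card = 24 - c.card := fun c => by
    rw [card_compl, card_golayPt]
  have h8 : ∀ d ∈ octads, W d := by
    rcases cw_card (hW c hc) with e | e | e | e | e
    · exact absurd (card_eq_zero.1 e) h0
    · exact fun d => t8 hc e
    · have := hd _ _ (t12 hc e (Golay.om_mem_dodecads (m := 0x2642df) (by decide +kernel)))
        (t12 hc e (Golay.om_mem_dodecads (m := 0x4a45cf) (by decide +kernel)))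
      rw [← Golay.gc.ofMask_xor] at this
      exact fun d => t8 this (Golay.om_mem_octads (m := 0x2642df ^^^ 0x4a45cf) (by decide +kernel)).2
    · exact fun d => t8 (hco c hc) (by rw [hcard, e])
    · exact absurd (eq_univ_of_card c (e.trans card_golayPt.symm)) h1
  rcases cw_card h with e | e | e | e | e
  · have := hd _ _ hu hu
    rwa [symmDiff_self, bot_eq_empty, ← card_eq_zero.1 e] at this
  · exact h8 d ⟨h, e⟩
  · have := hd _ _ (h8 _ (Golay.om_mem_octads (m := 0x82402f) (by decide +kernel)))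
      (h8 _ (Golay.om_mem_octads (m := 0xa402f0) (by decide +kernel)))
    rw [← Golay.gc.ofMask_xor] at this
    exact t12 this (Golay.om_mem_dodecads (m := 0x82402f ^^^ 0xa402f0) (by decide +kernel)).2 ⟨h, e⟩
  · have := hco _ (h8 dᶜ ⟨cw_compl h, by rw [hcard, e]⟩)
    rwa [compl_compl] at this
  · rwa [eq_univ_of_card d (e.trans card_golayPt.symm)]

/-- The group `2^12` of sign changes. -/
def Sgn : Subgroup Co0 where
  carrier := {g | ∃ c hc, g = sgn c hc}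
  one_mem' := ⟨∅, cw_empty, sgn_empty.symm⟩
  mul_mem' := by
    rintro _ _ ⟨c, hc, rfl⟩ ⟨d, hd, rfl⟩; exact ⟨_, _, sgn_mul_sgn hc hd⟩
  inv_mem' := by
    rintro _ ⟨c, hc, rfl⟩; exact ⟨c, hc, sgn_inv hc⟩

theorem sgn_mem_Sgn (c : Finset GolayPt) (hc : Cw c) : sgn c hc ∈ Sgn := ⟨c, hc, rfl⟩

theorem Sgn_le_Mono : Sgn ≤ Mono := by rintro _ ⟨c, hc, rfl⟩; exact sgn_mem_Mono c hc

theorem negOne_mem_Sgn : negOne ∈ Sgn := sgn_mem_Sgn _ _

theorem card_Sgn : Nat.card Sgn = 4096 := by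
  rw [← card_cw]
  refine (Nat.card_congr (Equiv.ofBijective
    (fun c : {c // Cw c} => (⟨sgn c.1 c.2, sgn_mem_Sgn _ _⟩ : Sgn)) ⟨fun c d h => ?_, ?_⟩)).symm
  · exact Subtype.ext (sgn_injective (hc := c.2) (hd := d.2) (congrArg Subtype.val h))
  · rintro ⟨_, c, hc, rfl⟩; exact ⟨⟨c, hc⟩, rfl⟩

theorem Sgn_sq {g : Co0} (hg : g ∈ Sgn) : g * g = 1 := by
  obtain ⟨c, hc, rfl⟩ := hg; exact sgn_mul_self hc

theorem Sgn_comm {g h : Co0} (hg : g ∈ Sgn) (hh : h ∈ Sgn) : g * h = h * g := by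
  have h1 := Sgn_sq (Sgn.mul_mem hg hh)
  rw [← inv_eq_of_mul_eq_one_right h1, mul_inv_rev, inv_eq_of_mul_eq_one_right (Sgn_sq hg),
    inv_eq_of_mul_eq_one_right (Sgn_sq hh)]

theorem prm_sgn_conj (σ : M24) {c : Finset GolayPt} (hc : Cw c) :
    prm σ * sgn c hc * (prm σ)⁻¹ = sgn (σ.1 • c) (cw_smul σ.2 hc) := by
  rw [prm_mul_sgn, mul_inv_cancel_right]

theorem Sgn_conj {g x : Co0} (hg : g ∈ Mono) (hx : x ∈ Sgn) : g * x * g⁻¹ ∈ Sgn := by
  obtain ⟨c, hc, σ, rfl⟩ := exists_sgn_prm hg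
  obtain ⟨d, hd, rfl⟩ := hx
  rw [mul_inv_rev, show ∀ a b c d e : Co0, a * b * c * (d * e) = a * (b * c * d) * e from
    fun _ _ _ _ _ => by group, prm_sgn_conj]
  exact Sgn.mul_mem (Sgn.mul_mem (sgn_mem_Sgn _ _) (sgn_mem_Sgn _ _)) (Sgn.inv_mem (sgn_mem_Sgn _ _))

theorem eq_bot_of_pow_four {G : Type*} [Group G] [Finite G] [IsSimpleGroup G] {N : Subgroup G}
    (hN : N.Normal) (h : ∀ x ∈ N, x ^ 4 = 1) (h3 : 3 ∣ Nat.card G) : N = ⊥ := by
  refine (hN.eq_bot_or_eq_top).resolve_right fun e => ?_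
  have := Fact.mk Nat.prime_three
  obtain ⟨a, ha⟩ := exists_prime_orderOf_dvd_card' (G := G) 3 h3
  have := orderOf_dvd_of_pow_eq_one (h a (e ▸ trivial))
  rw [ha] at this; omega

/-- The non-central normal subgroups of exponent dividing four of the monomial group. -/
theorem eq_Sgn {F : Subgroup Co0} (hF : F ≤ Mono) (hn : ∀ g ∈ Mono, ∀ x ∈ F, g * x * g⁻¹ ∈ F)
    (h4 : ∀ x ∈ F, x ^ 4 = 1) (h1 : negOne ∈ F) (hne : ∃ x ∈ F, ¬ (x = 1 ∨ x = negOne)) :
    F = Sgn := by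
  have hs : Function.Surjective monoPerm := fun σ =>
    ⟨⟨prm σ, prm_mem_Mono σ⟩, monoPerm_eq (c := ∅) (hc := cw_empty) (by rw [sgn_empty, one_mul])⟩
  have hN : (F.subgroupOf Mono).Normal := ⟨fun x hx g => hn g g.2 x hx⟩
  have := Golay.simple_M24
  have hb := eq_bot_of_pow_four (hN.map monoPerm hs) (by
    rintro _ ⟨x, hx, rfl⟩
    rw [← map_pow, show x ^ 4 = 1 from Subtype.ext (h4 x hx), map_one])
    (by rw [Golay.card_M24]; norm_num)
  have hle : F ≤ Sgn := fun x hx => by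
    obtain ⟨c, hc, e⟩ := exists_sgn_monoPerm ⟨x, hF hx⟩
    rw [(Subgroup.eq_bot_iff_forall _).1 hb _ ⟨⟨x, hF hx⟩, hx, rfl⟩, prm_one, mul_one] at e
    exact ⟨c, hc, e⟩
  refine hle.antisymm ?_
  obtain ⟨x, hx, hx1⟩ := hne
  obtain ⟨c, hc, rfl⟩ := hle hx
  rintro _ ⟨d, hd, rfl⟩
  refine (cw_irred (W := fun c => ∃ hc, sgn c hc ∈ F) (fun c h => h.1) ?_ ⟨cw_univ, h1⟩ ?_
    ⟨hc, hx⟩ ?_ ?_ d hd).2
  · rintro c d ⟨hc, h⟩ ⟨hd, h'⟩
    exact ⟨_, sgn_mul_sgn hc hd ▸ F.mul_mem h h'⟩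
  · rintro σ hσ c ⟨hc, h⟩
    exact ⟨_, prm_sgn_conj ⟨σ, hσ⟩ hc ▸ hn _ (prm_mem_Mono _) _ h⟩
  · rintro rfl; exact hx1 (Or.inl sgn_empty)
  · rintro rfl; exact hx1 (Or.inr rfl)

theorem pm_of_congr {g : Co0} {v w : leechLattice} (hv : sqNorm (v : GolayPt → ℤ) < 64)
    (h : g • v - v = 2 • w) : g • v = v ∨ g • v = -v := by
  by_cases e : g • v = v
  · exact Or.inl e
  · rcases short_congr e (by rw [sqNorm_smul]; omega) hv.le h with h | h
    · exact Or.inr h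
    · omega

/-- The stabiliser of `± u` has no non-central normal subgroup of exponent four. -/
theorem central_of_pow_four {F : Subgroup Co0} (hF : ∀ x ∈ F, x • leechU = leechU ∨ x • leechU = -leechU)
    (hn : ∀ g ∈ sCo2, ∀ x ∈ F, g * x * g⁻¹ ∈ F) (h4 : ∀ x ∈ F, x ^ 4 = 1) (h1 : negOne ∈ F)
    {x : Co0} (hx : x ∈ F) : x = 1 ∨ x = negOne := by
  have := simple_sCo2
  have hb := (Subgroup.eq_bot_iff_forall _).1 (eq_bot_of_pow_four (N := F.subgroupOf sCo2)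
    ⟨fun x hx g => hn g g.2 x hx⟩ (fun x hx => Subtype.ext (h4 x hx))
    (by rw [card_sCo2]; norm_num))
  rcases hF x hx with e | e
  · exact Or.inl (congrArg Subtype.val (hb ⟨x, e⟩ hx))
  · have h2 := congrArg Subtype.val (hb ⟨negOne * x, by
      rw [mem_stabilizer_iff, mul_smul, e, negOne_smul, neg_neg]⟩ (F.mul_mem h1 hx))
    exact Or.inr ((eq_inv_of_mul_eq_one_right h2).trans (inv_eq_of_mul_eq_one_right negOne_mul_self))

/-- The projection `Co0 → Co1`. -/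
abbrev mk1 : Co0 →* Co1 := QuotientGroup.mk' (Subgroup.center Co0)

theorem mk1_eq_one {g : Co0} : mk1 g = 1 ↔ g = 1 ∨ g = negOne :=
  (QuotientGroup.eq_one_iff g).trans mem_center_iff

theorem mk1_surjective : Function.Surjective mk1 := QuotientGroup.mk'_surjective _

theorem mk1_negOne : mk1 negOne = 1 := mk1_eq_one.2 (Or.inr rfl)

theorem mk1_eq_iff {g h : Co0} : mk1 g = mk1 h ↔ g = h ∨ g = negOne * h := by
  rw [← mul_inv_eq_one, ← map_inv, ← map_mul, mk1_eq_one, mul_inv_eq_one, mul_inv_eq_iff_eq_mul]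

theorem card_comap_mk1 (K : Subgroup Co1) : Nat.card (K.comap mk1) = Nat.card K * 2 := by
  rw [Core.card_comap_mk', card_center]

theorem not_two_of_norm {v : leechLattice} (h : sqNorm (v : GolayPt → ℤ) = 32 ∨
    sqNorm (v : GolayPt → ℤ) = 48 ∨ sqNorm (v : GolayPt → ℤ) = 64) (w : leechLattice) :
    v ≠ w + w := by
  rintro rfl
  have h2 := sixteen_dvd_sqNorm w.2
  rw [AddSubgroup.coe_add, sqNorm_add, dotInt_self] at h
  have := eq_zero_of_sqNorm_lt w.2 (by omega)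
  rw [this, sqNorm_zero] at h
  omega

end Cfsg.Lib.Leech
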