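import Cfsg.Agent.Lib.Leech.Perm
import Cfsg.Agent.Lib.Comp.Cen
import Cfsg.Agent.Lib.Comp.Subst2

/-! Stabilisers of short vectors identified through permutation models. -/

set_option autoImplicit false

namespace Cfsg.Lib.Leech

open MulAction Spor Cfsg.Lib.Comp

theorem stab_iso {H : Subgroup Co0} {G K : Subgroup (Equiv.Perm ℕ)} (e : H ≃* G) (hK : K ≤ G) {x : leechLattice}
    (h : ∀ a : H, (e a : Equiv.Perm ℕ) ∈ K → (a : Co0) • x = x) [Finite ↥(H ⊓ stabilizer Co0 x)]
    (hc : Nat.card ↥(H ⊓ stabilizer Co0 x) ≤ Nat.card K) : Nonempty (K ≃* ↥(H ⊓ stabilizer Co0 x)) :=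
  iso_of_range (f := H.subtype.comp (e.symm.toMonoidHom.comp (Subgroup.inclusion hK)))
    (H.subtype_injective.comp (e.symm.injective.comp (Subgroup.inclusion_injective hK)))
    (by rintro _ ⟨k, rfl⟩; exact ⟨(e.symm _).2, h _ (by simp)⟩) hc

theorem conj_iso2 (k : Co0) (u v : leechLattice) : Nonempty (↥(stabilizer Co0 u ⊓ stabilizer Co0 v) ≃*
    ↥(stabilizer Co0 (k • u) ⊓ stabilizer Co0 (k • v))) := by
  rw [stabilizer_smul_eq_stabilizer_map_conj, stabilizer_smul_eq_stabilizer_map_conj,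
    ← Subgroup.map_inf _ _ _ (MulAut.conj k).injective]
  exact ⟨Subgroup.equivMapOfInjective _ _ (MulAut.conj k).injective⟩

theorem conj_iso3 (k : Co0) (u v x : leechLattice) : Nonempty (↥(stabilizer Co0 u ⊓ stabilizer Co0 v ⊓ stabilizer Co0 x) ≃*
    ↥(stabilizer Co0 (k • u) ⊓ stabilizer Co0 (k • v) ⊓ stabilizer Co0 (k • x))) := by
  rw [stabilizer_smul_eq_stabilizer_map_conj, stabilizer_smul_eq_stabilizer_map_conj,
    stabilizer_smul_eq_stabilizer_map_conj, ← Subgroup.map_inf _ _ _ (MulAut.conj k).injective,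
    ← Subgroup.map_inf _ _ _ (MulAut.conj k).injective]
  exact ⟨Subgroup.equivMapOfInjective _ _ (MulAut.conj k).injective⟩

/-- A simple group permuting two vectors fixes them. -/
theorem fix_of_simple {K : Type*} [Group K] (hs : IsSimpleGroup K) (hc : ¬ Nat.card K ∣ 2) (f : K →* Co0)
    {c x : leechLattice} (h1 : ∀ a, f a • c = c) (h : ∀ a, f a • x = x ∨ f a • x = c - x) (a : K) : f a • x = x := by
  by_contra ha
  have h2 : ((stabilizer Co0 x).comap f).index = 2 := Subgroup.index_eq_two_iff.2 ⟨a, fun b => by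
    have k : f (b * a) • x = c - f b • x := by
      rw [map_mul, mul_smul, (h a).resolve_left ha, sub_eq_add_neg, co0_smul_add, co0_smul_neg, h1, sub_eq_add_neg]
    simp only [Subgroup.mem_comap, mem_stabilizer_iff, k]
    rcases h b with e | e
    · exact Or.inr ⟨e, fun e' => ha (((h a).resolve_left ha).trans (by rwa [e] at e'))⟩
    · exact Or.inl ⟨by rw [e, sub_sub_cancel], fun e' => ha (((h a).resolve_left ha).trans (e.symm.trans e'))⟩⟩
  rcases hs.eq_bot_or_eq_top_of_normal _ (Subgroup.normal_of_index_eq_two h2) with e | e <;> rw [e] at h2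
  · exact hc (by rw [← h2, Subgroup.index_bot])
  · simp at h2

/-- Action of a word on codes. -/
noncomputable def apWs (Ws w : List ℕ) (n : ℕ) : ℕ :=
  List.rec (motive := fun _ => ℕ) n (fun x _ ih => force ih (apW (nth 0 Ws x))) w

theorem rep_apWs {g : ℕ → Co0} {Ws w : List ℕ} (h : ∀ x ∈ w, Impl (g x) (nth 0 Ws x)) {n : ℕ} {v : leechLattice}
    (hv : Rep n v) (hv' : sqNorm (v : GolayPt → ℤ) ≤ 64) : Rep (apWs Ws w n) (ev g w • v) := by
  induction w with
  | nil => exact (one_smul Co0 v).symm ▸ hv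
  | cons x t ih =>
    rw [ev_cons, mul_smul, show apWs Ws (x :: t) n = force (apWs Ws t n) (apW (nth 0 Ws x)) from rfl, force_eq]
    exact h x List.mem_cons_self _ _ (ih fun y hy => h y (List.mem_cons_of_mem _ hy)) (by rwa [sqNorm_smul])

end Cfsg.Lib.Leech
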