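import Cfsg.Agent.Lib.Leech.Stab
import Cfsg.Agent.Lib.Leech.PermCo2
import Cfsg.Agent.Lib.Comp.U62x.Mat

set_option autoImplicit false
set_option maxRecDepth 100000
set_option Elab.async false

namespace Cfsg.Lib.Leech.PCo2

open MulAction Spor Cfsg.Lib.Comp

noncomputable def sC : List Lev := [([64,65,66,67,68,69,70,71,72,73,74,75,76,77,78,79,80,81,82,83,84,85,86,87],[1,2,64,66,68,74,76,85,2,70,64,78,2,66,1],0,0,2300),
 ([68,69,70,71,72,73,74,75,76,77,78,79,80,81,82,83,84,85,86,87],[64,66,64,68,70,72,76,66,64,74,70,78,66,64],1,1,1408),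
 ([72,73,74,75,76,77,78,79,80,81,82,83,84,85,86,87],[68,70,68,72,74,76,70,68,82,85,76,70,68],2,2,840),
 ([80,81,82,83,84,85,86,87],[72,74,76,72,78,74,80,72,85,76,78,72],3,3,486),
 ([87],[80,82,84,80,80],1409,1409,16),
 ([],[87],2060,2060,2)]

noncomputable def sM : List ℕ := L ++ slp.map (·.1)

theorem sM_eq : cl (gp nets) sM = cl (gp nets) L := cl_eq_of_slpB nets_ok (by norm_num) slp_ok

theorem s_base : IsBase (cl (gp nets) L) (bases sC) :=
  sM_eq ▸ (exact_of_beq (n := 42305421312000) (sM_eq ▸ card.le) (by decide +kernel)).isBase nets_ok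

noncomputable def stb (x p : ℕ) : ℕ := ptInv (nth Net.nil nets x) p

theorem stb_ok : TbA nets stb := tbA_pt nets_ok

noncomputable def sV : List (List ℕ) := [[],
 [85,74,73,69,72,68,66,87,70,1,67,77,66],
 [67,76,66,1,71,87,67,69,73,68,72,75,86],
 [81,84,75,73,76,69,69,64,68,82,1,69,77],
 [76,68,1,83,69,65,68,68,77,72,74,84,80],
 [86,72,75,69,70,81,66,70],
 [80,80,75,75,77,71,71,74,66,70,65],
 [64,71,67,75,70,70,76,74,74,81,81],
 [80,72,76,81,68,85,72,66,69],
 [68,67,73,86,69,80,77,73,81],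
 [83,84,72,72,75,73,68,87,70,66,80,71],
 [70,81,67,71,87,69,72,74,73,73,84,82],
 [87,84,85,76,73,70,82,71,64,64,83,1,69,69,66],
 [67,68,68,1,82,65,65,70,83,71,72,77,86,84,87],
 [82,84,77,79,68,82,72,65,65,83,1,64,83,71],
 [87,81,84,79,79,68,76,74,66,69,78,1,66,68,85],
 [82,78,72,68,71,79,73,65,69,71,1,80,64]]

theorem s_mem : ∀ x ∈ sM, gp nets x ∈ cl (gp nets) L := fun _ h => sM_eq ▸ mem_cl h

theorem s_sub : allL sV (fun w => subB w sM) = true := by decide +kernel

theorem s_emb : Nonempty (cl (gp U62x.nets) U62x.L ≃* cl (sv (gp nets) sV) U62x.L) :=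
  (embed_of_rels U62x.simple U62x.nets_iv U62x.nets_rel U62x.ord U62x.lb (siv s_base stb_ok s_mem s_sub (by decide +kernel))
    (srels s_base stb_ok s_mem s_sub (by decide +kernel)) (x := 1) (by decide) (sv_ne stb_ok (p := 0) (by decide +kernel))).nonempty

theorem s_le : cl (sv (gp nets) sV) U62x.L ≤ cl (gp nets) L := cl_le.2 fun x _ => sv_mem s_mem s_sub x

theorem card_sU62 : Nat.card ↥(sCo2 ⊓ stabilizer Co0 leechX) = 9196830720 := by
  have := card_stab_inf (S := XD leechU (-16)) ⟨X_mem.1.1, X_mem.2⟩ orb4600 XD_inv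
  rw [card_sCo2, show (XD leechU (-16)).ncard = 4600 from census_U.1] at this
  omega

theorem s_iso : Nonempty (cl (gp U62x.nets) U62x.L ≃* ↥(sCo2 ⊓ stabilizer Co0 leechX)) := by
  obtain ⟨-, e, -, h⟩ := main
  obtain ⟨f⟩ := s_emb
  have : Finite ↥(sCo2 ⊓ stabilizer Co0 leechX) := Nat.finite_of_card_ne_zero (by rw [card_sU62]; norm_num)
  have r : Rep (T 1409) (leechU + leechX) :=
    (by decide +kernel : 0x08080808080808080808080808080808080808080808040c = T 1409) ▸ ⟨by norm_num, by decide +kernel⟩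
  have hc := (Nat.card_congr f.toEquiv).symm.trans U62x.card
  have := U62x.simple
  refine (stab_iso e s_le (x := leechX) (fun a ha => ?_) (card_sU62.trans hc.symm).le).map f.trans
  have := fix_of_simple f.symm.isSimpleGroup (by rw [hc]; norm_num)
    (sCo2.subtype.comp (e.symm.toMonoidHom.comp (Subgroup.inclusion s_le))) (c := leechU) (x := leechU + leechX)
    (fun b => (e.symm _).2) (fun b => h _ 1409 (by norm_num) _ _ r (by
      rw [MulEquiv.toMonoidHom_eq_coe, MonoidHom.comp_apply, MonoidHom.coe_coe, e.apply_symm_apply, Subgroup.coe_inclusion,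
        sv_fix stb_ok (b := 1409) (by decide +kernel) _ _ b.2]
      exact r)) ⟨_, ha⟩
  rw [show (sCo2.subtype.comp (e.symm.toMonoidHom.comp (Subgroup.inclusion s_le))) ⟨_, ha⟩ = a from
    congrArg Subtype.val (e.symm_apply_apply a), co0_smul_add, mem_stabilizer_iff.1 a.2] at this
  exact add_left_cancel this

end Cfsg.Lib.Leech.PCo2
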