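import Cfsg.Agent.Lib.Leech.Stab
import Cfsg.Agent.Lib.Leech.PermMcL
import Cfsg.Agent.Lib.Comp.U43x.Mat

set_option autoImplicit false
set_option maxRecDepth 100000
set_option Elab.async false

namespace Cfsg.Lib.Leech.PMcL

open MulAction Spor Cfsg.Lib.Comp

noncomputable def sC : List Lev := [([64,65,66,67,68,69,70,71,72,73,74,75,76,77,78],[1,2,64,66,67,1,2,71,69,77,64],0,0,275),
 ([67,68,69,70,71,72,73,74,75,76,77,78],[64,66,64,67,71,75,64,69,67,69,64],1,1,162),
 ([71,72,73,74,75,76,77,78],[67,69,67,73,69,75,67,69,71,67],2,2,105),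
 ([77,78],[71,73,75,73,71,77,75,73,71],3,3,64),
 ([],[77,77],67,67,3)]

noncomputable def sM : List ℕ := L ++ slp.map (·.1)

theorem sM_eq : cl (gp nets) sM = cl (gp nets) L := cl_eq_of_slpB nets_ok (by norm_num) slp_ok

theorem s_base : IsBase (cl (gp nets) L) (bases sC) :=
  sM_eq ▸ (exact_of_beq (n := 898128000) (sM_eq ▸ card.le) (by decide +kernel)).isBase nets_ok

noncomputable def stb (x p : ℕ) : ℕ := ptInv (nth Net.nil nets x) p

theorem stb_ok : TbA nets stb := tbA_pt nets_ok

noncomputable def sV : List (List ℕ) := [[],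
 [72,73,67,76,64,75,70],
 [69,76,65,75,68,74,71],
 [74,76,69,68,69,64,64,69],
 [70,65,65,70,67,70,75,73],
 [71,74,72,68,70,67],
 [78,73,77,67,69,77],
 [77,76,77,67,78,67,65,70],
 [71,74,68,69,64,68,71],
 [72,67,65,70,67,73,72],
 [72,66,71],
 [73,72,78,68,73,69]]

theorem s_mem : ∀ x ∈ sM, gp nets x ∈ cl (gp nets) L := fun _ h => sM_eq ▸ mem_cl h

theorem s_sub : allL sV (fun w => subB w sM) = true := by decide +kernel

theorem s_emb : Nonempty (cl (gp U43x.nets) U43x.L ≃* cl (sv (gp nets) sV) U43x.L) :=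
  (embed_of_rels U43x.simple U43x.nets_iv U43x.nets_rel U43x.ord U43x.lb (siv s_base stb_ok s_mem s_sub (by decide +kernel))
    (srels s_base stb_ok s_mem s_sub (by decide +kernel)) (x := 1) (by decide) (sv_ne stb_ok (p := 1) (by decide +kernel))).nonempty

theorem s_le : cl (sv (gp nets) sV) U43x.L ≤ cl (gp nets) L := cl_le.2 fun x _ => sv_mem s_mem s_sub x

theorem s_iso : Nonempty (cl (gp U43x.nets) U43x.L ≃* sU43) := by
  obtain ⟨-, e, -, h⟩ := main
  obtain ⟨f⟩ := s_emb
  have : Finite sU43 := Nat.finite_of_card_ne_zero (by rw [card_sU43]; norm_num)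
  have r : Rep (T 0) leechX := (by decide +kernel : 0x040808080808080808080808080808080808080808080408 = T 0) ▸ rep_X
  refine (stab_iso e s_le (x := leechX) (fun a ha => ?_)
    (card_sU43.trans ((Nat.card_congr f.toEquiv).symm.trans U43x.card).symm).le).map f.trans
  refine (h a 0 (by norm_num) _ _ r ((sv_fix stb_ok (b := 0) (by decide +kernel) _ _ ha).symm ▸ r)).resolve_right fun c => ?_
  have := ip_stab a.2.2 leechX
  rw [c] at this
  exact absurd this (by decide)

end Cfsg.Lib.Leech.PMcL
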